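import Cfsg.Agent.H853.TDefs
import Cfsg.Agent.H805.MSpU
import Cfsg.Agent.Fischer480.Transport
import Cfsg.Agent.H838.TTLab
import Cfsg.Agent.LieClassical.OrthFinite
import Cfsg.Agent.ClassicalGeometry.OrthAutRoot
import Cfsg.Agent.Fischer920.IsoO
set_option linter.all false

-- part: H462/S5554/Quo
section
/-!
# S5554: a unitary class modulo the centre

* `eq_of_central` : `d, d z ∈ E` with `z` central: `z = 1`;
* `fdata_quo`, `isU_quo`, `center_quo` : the image of `E` in `H / Z(H)`;
* `exists_psu` : `H / Z(H)` is `PSU_n(2)`, the image of `E` is the set of the images of the transvections.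
-/

set_option autoImplicit false

namespace Cfsg.Agent.H462.S5554.Quo

open Subgroup Cfsg Cfsg.Agent.H854 Cfsg.Agent.H854.TM Cfsg.Agent.H854.ClassBasic
open Cfsg.Agent.SporadicStructure.FischerSpace Cfsg.Agent.Fischer480.Defs

universe u

variable {H : Type u} [Group H] {E : Set H}

theorem fdata (h : Cls E) : FData E where
  sq := h.sq
  ne_one := h.ne
  conj := h.conj
  braid := fun x hx y hy hc => (h.braid x hx y hy).resolve_left hc
  single := h.trans
  gen := h.gen
  nonempty := h.nonempty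

variable {n : ℕ}

/-- a member of a unitary class times a central element -/
theorem eq_of_central (h : Cls E) (hn : 4 ≤ n) (hU : IsU n E) {d z : H} (hd : d ∈ E) (hz : z ∈ center H)
    (hdz : d * z ∈ E) : z = 1 := by
  obtain ⟨F, i1, i2, f, U⟩ := Cfsg.Agent.S0480U.UModel.exists_um hU
  obtain ⟨w, hw, hdw⟩ := Cfsg.Agent.S0480U.UModel.exists_not_commute U hd
  have key : ∀ y, Commute y d → Commute y (d * z) := fun y hy => hy.mul_right (mem_center_iff.1 hz y)
  rcases Cfsg.Agent.Fischer919.FinalU.hyp_of_um U hn (fdata h) d hd w hw hdw (d * z) hdz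
    (fun y _ h1 _ => key y h1) with h1 | h1 | h1
  · exact mul_eq_left.1 h1
  · exfalso
    apply hdw
    rw [← h1]
    exact key d (Commute.refl d)
  · exfalso
    have h2 : Commute d (d * w * d) := by
      rw [← h1]
      exact key d (Commute.refl d)
    have hdd := h.sq d hd
    apply hdw
    show d * w = w * d
    calc d * w = d * w * (d * d) := by rw [hdd, mul_one]
      _ = (d * w * d) * d := by simp only [mul_assoc]
      _ = d * (d * w * d) := h2.symm
      _ = (d * d) * (w * d) := by simp only [mul_assoc]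
      _ = w * d := by rw [hdd, one_mul]

theorem quo_inj (h : Cls E) (hn : 4 ≤ n) (hU : IsU n E) {x y : H} (hx : x ∈ E) (hy : y ∈ E)
    (hxy : QuotientGroup.mk' (center H) x = QuotientGroup.mk' (center H) y) : x = y := by
  have h1 : x⁻¹ * y ∈ center H := QuotientGroup.eq.1 hxy
  have h2 := eq_of_central h hn hU hx h1 (by rwa [mul_inv_cancel_left])
  exact (inv_mul_eq_one.1 h2)

theorem quo_comm (h : Cls E) {x y : H} (hx : x ∈ E) (hy : y ∈ E) :
    Commute (QuotientGroup.mk' (center H) x) (QuotientGroup.mk' (center H) y) ↔ Commute x y := by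
  constructor
  · intro hc
    by_contra hnc
    have h1 : (x * y)⁻¹ * (y * x) ∈ center H := by
      apply QuotientGroup.eq.1
      show QuotientGroup.mk' (center H) (x * y) = QuotientGroup.mk' (center H) (y * x)
      rw [map_mul, map_mul]
      exact hc
    have h3 := h.cube hx hy hnc
    have h4 : (x * y)⁻¹ * (y * x) = x * y := by
      have h5 : (y * x) = (x * y)⁻¹ := by
        rw [mul_inv_rev, inv_of_sq (h.sq x hx), inv_of_sq (h.sq y hy)]
      rw [h5, inv_eq_mul_self h3]
      calc x * y * (x * y) * (x * y * (x * y)) = (x * y * (x * y) * (x * y)) * (x * y) := by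
            simp only [mul_assoc]
        _ = x * y := by rw [h3, one_mul]
    rw [h4] at h1
    apply hnc
    have h5 := mem_center_iff.1 h1 x
    show x * y = y * x
    rw [mul_assoc] at h5
    exact mul_left_cancel h5
  · intro hc
    exact hc.map (QuotientGroup.mk' (center H))

theorem cIso_quo (h : Cls E) (hn : 4 ≤ n) (hU : IsU n E) : CIso E (QuotientGroup.mk' (center H) '' E) :=
  ⟨QuotientGroup.mk' (center H), ⟨fun _ hx => ⟨_, hx, rfl⟩, fun _ hx _ hy hxy => quo_inj h hn hU hx hy hxy,
    fun _ hy => hy⟩, fun _ hx _ hy => (quo_comm h hx hy).symm⟩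

theorem isU_quo (h : Cls E) (hn : 4 ≤ n) (hU : IsU n E) : IsU n (QuotientGroup.mk' (center H) '' E) :=
  Cfsg.Agent.Fischer480.Transport.isU (Cfsg.Agent.Fischer480.Transport.CIso.symm (cIso_quo h hn hU)) hU

theorem fdata_quo (h : Cls E) (hU : IsU n E) : FData (QuotientGroup.mk' (center H) '' E) where
  sq := by
    rintro _ ⟨x, hx, rfl⟩
    rw [← map_mul, h.sq x hx, map_one]
  ne_one := by
    rintro _ ⟨x, hx, rfl⟩ h1
    have h2 : x ∈ center H := (QuotientGroup.eq_one_iff x).1 h1
    obtain ⟨F, i1, i2, f, U⟩ := Cfsg.Agent.S0480U.UModel.exists_um hU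
    obtain ⟨w, hw, hdw⟩ := Cfsg.Agent.S0480U.UModel.exists_not_commute U hx
    exact hdw (mem_center_iff.1 h2 w).symm
  conj := by
    intro g
    obtain ⟨g, rfl⟩ := QuotientGroup.mk'_surjective (center H) g
    rintro _ ⟨x, hx, rfl⟩
    exact ⟨g * x * g⁻¹, h.conj g x hx, by rw [map_mul, map_mul, map_inv]⟩
  braid := by
    rintro _ ⟨x, hx, rfl⟩ _ ⟨y, hy, rfl⟩ hc
    rw [quo_comm h hx hy] at hc
    rw [← map_mul, ← map_mul, ← map_mul, ← map_mul, (h.braid x hx y hy).resolve_left hc]
  single := by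
    rintro _ ⟨x, hx, rfl⟩ _ ⟨y, hy, rfl⟩
    obtain ⟨g, hg⟩ := h.trans x hx y hy
    exact ⟨QuotientGroup.mk' (center H) g, by rw [← map_inv, ← map_mul, ← map_mul, hg]⟩
  gen := by
    rw [← MonoidHom.map_closure, h.gen]
    exact Subgroup.map_top_of_surjective _ (QuotientGroup.mk'_surjective _)
  nonempty := h.nonempty.image _

theorem center_quo (h : Cls E) (hn : 4 ≤ n) (hU : IsU n E) : center (H ⧸ center H) = ⊥ := by
  rw [eq_bot_iff]
  intro y hy
  obtain ⟨g, rfl⟩ := QuotientGroup.mk'_surjective (center H) y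
  rw [mem_bot]
  refine (QuotientGroup.eq_one_iff g).2 ?_
  have key : ∀ d ∈ E, g * d * g⁻¹ = d := by
    intro d hd
    have h1 := mem_center_iff.1 hy (QuotientGroup.mk' (center H) d)
    apply quo_inj h hn hU (h.conj g d hd) hd
    rw [map_mul, map_mul, map_inv, ← h1, mul_inv_cancel_right]
  have h2 : closure E ≤ centralizer {g} := by
    rw [closure_le]
    intro d hd
    rw [SetLike.mem_coe, mem_centralizer_singleton_iff]
    exact (mul_inv_eq_iff_eq_mul.1 (key d hd)).symm
  rw [h.gen] at h2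
  rw [mem_center_iff]
  intro k
  exact mem_centralizer_singleton_iff.1 (h2 (mem_top k))

/-- **`H / Z(H)` is `PSU_n(2)`** -/
theorem exists_psu (h : Cls E) (hn : 4 ≤ n) (hU : IsU n E) :
    ∃ (F : Type) (_ : Field F) (_ : Fintype F), Fintype.card F = 4 ∧ ∃ e : H ⧸ center H ≃* Cfsg.PSU n F 2,
      e '' (QuotientGroup.mk' (center H) '' E) = (QuotientGroup.mk : ↥(Cfsg.SU n F 2) → Cfsg.PSU n F 2) ''
        {g : ↥(Cfsg.SU n F 2) | (((g : Matrix.SpecialLinearGroup (Fin n) F) : Matrix (Fin n) (Fin n) F) - 1).rank = 1} :=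
  Cfsg.Agent.H805.MSpU.exists_iso_psu (fdata_quo h hU) (center_quo h hn hU) hn (isU_quo h hn hU)

end Cfsg.Agent.H462.S5554.Quo
end

-- part: H838/TTTab
section
/-!
# Closed sections from tables of heights (helper838, TT2 of S5554)

The vectors are coded by the numbers `c < 2 ^ n`; `A` are the codes of simple roots and `h c` the height of the
positive root with the residue `c`.
-/

set_option autoImplicit false

namespace Cfsg.Agent.H838.TT

open QuadraticMap Cfsg.Agent.LieClassical.OrthCore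

/-- the bilinear form on codes -/
def P (q : ℕ → Bool) (c d : ℕ) : Bool := xor (q (c ^^^ d)) (xor (q c) (q d))

/-- the conditions on one code -/
def okc (q : ℕ → Bool) (A : List ℕ) (h : ℕ → ℕ) (c : ℕ) : Bool :=
  Nat.ble 1 (h c) && (if h c = 1 then A.contains c else A.any fun a => P q c a && Nat.blt (h (c ^^^ a)) (h c)) &&
    A.all fun a => !P q c a || (!Nat.beq (h (c ^^^ a)) (h c) &&
      (!Nat.blt (h (c ^^^ a)) (h c) || A.all fun b => Nat.beq a b || !P q c b || !Nat.blt (h (c ^^^ b)) (h c) ||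
        (if P q a b = true then Nat.beq c (a ^^^ b) else Nat.blt (h (c ^^^ a ^^^ b)) (h (c ^^^ a)))))

/-- the conditions on the table -/
def ok (n : ℕ) (q : ℕ → Bool) (A : List ℕ) (h : ℕ → ℕ) : Bool :=
  (A.all fun a => Nat.blt a (2 ^ n) && q a && Nat.beq (h a) 1) &&
    (List.range (2 ^ n)).all fun c => !q c || okc q A h c

/-- the conditions -/
structure Ok (n : ℕ) (q : ℕ → Bool) (A : List ℕ) (h : ℕ → ℕ) : Prop where
  lt : ∀ a ∈ A, a < 2 ^ n
  qa : ∀ a ∈ A, q a = true
  ha : ∀ a ∈ A, h a = 1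
  pos : ∀ c < 2 ^ n, q c = true → 1 ≤ h c
  one : ∀ c < 2 ^ n, q c = true → h c = 1 → c ∈ A
  desc : ∀ c < 2 ^ n, q c = true → h c ≠ 1 → ∃ a ∈ A, P q c a = true ∧ h (c ^^^ a) < h c
  ne : ∀ c < 2 ^ n, q c = true → ∀ a ∈ A, P q c a = true → h (c ^^^ a) ≠ h c
  two : ∀ c < 2 ^ n, q c = true → ∀ a ∈ A, ∀ b ∈ A, a ≠ b → P q c a = true → P q c b = true → h (c ^^^ a) < h c →
    h (c ^^^ b) < h c → (P q a b = true → c = a ^^^ b) ∧ (P q a b = false → h (c ^^^ a ^^^ b) < h (c ^^^ a))

theorem Ok.of {n : ℕ} {q : ℕ → Bool} {A : List ℕ} {h : ℕ → ℕ} (H : ok n q A h = true) : Ok n q A h := by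
  rw [ok, Bool.and_eq_true, List.all_eq_true, List.all_eq_true] at H
  obtain ⟨h1, h2⟩ := H
  have h1' : ∀ a ∈ A, a < 2 ^ n ∧ q a = true ∧ h a = 1 := by
    intro a ha
    have := h1 a ha
    simp only [Bool.and_eq_true, Nat.blt_eq, Nat.beq_eq] at this
    exact ⟨this.1.1, this.1.2, this.2⟩
  have h2' : ∀ c < 2 ^ n, q c = true → okc q A h c = true := by
    intro c hc hq
    have := h2 c (List.mem_range.2 hc)
    rwa [hq, Bool.not_true, Bool.false_or] at this
  have h3 : ∀ c < 2 ^ n, q c = true → 1 ≤ h c ∧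
      (if h c = 1 then A.contains c else A.any fun a => P q c a && Nat.blt (h (c ^^^ a)) (h c)) = true ∧
      ∀ a ∈ A, P q c a = true → h (c ^^^ a) ≠ h c ∧ (h (c ^^^ a) < h c → ∀ b ∈ A, a ≠ b → P q c b = true →
        h (c ^^^ b) < h c →
          (if P q a b = true then Nat.beq c (a ^^^ b) else Nat.blt (h (c ^^^ a ^^^ b)) (h (c ^^^ a))) = true) := by
    intro c hc hq
    have h3 := h2' c hc hq
    rw [okc, Bool.and_eq_true, Bool.and_eq_true] at h3
    obtain ⟨⟨h4, h5⟩, h6⟩ := h3
    refine ⟨Nat.le_of_ble_eq_true h4, h5, ?_⟩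
    intro a ha hp
    have h7 := List.all_eq_true.1 h6 a ha
    rw [hp, Bool.not_true, Bool.false_or, Bool.and_eq_true] at h7
    obtain ⟨h8, h9⟩ := h7
    refine ⟨?_, ?_⟩
    · intro he
      rw [he] at h8
      simp at h8
    · intro hlt b hb hab hpb hltb
      rw [show Nat.blt (h (c ^^^ a)) (h c) = true by rw [Nat.blt_eq]; exact hlt, Bool.not_true, Bool.false_or] at h9
      have h10 := List.all_eq_true.1 h9 b hb
      rw [hpb, show Nat.blt (h (c ^^^ b)) (h c) = true by rw [Nat.blt_eq]; exact hltb] at h10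
      have hab' : Nat.beq a b = false := by
        rw [← Bool.not_eq_true, Nat.beq_eq]
        exact hab
      rw [hab'] at h10
      simpa using h10
  refine ⟨fun a ha => (h1' a ha).1, fun a ha => (h1' a ha).2.1, fun a ha => (h1' a ha).2.2, fun c hc hq => (h3 c hc hq).1,
    ?_, ?_, fun c hc hq a ha hp => ((h3 c hc hq).2.2 a ha hp).1, ?_⟩
  · intro c hc hq h1
    have h4 := (h3 c hc hq).2.1
    rw [if_pos h1] at h4
    simpa using h4
  · intro c hc hq h1
    have h4 := (h3 c hc hq).2.1
    rw [if_neg h1, List.any_eq_true] at h4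
    obtain ⟨a, ha, h5⟩ := h4
    rw [Bool.and_eq_true, Nat.blt_eq] at h5
    exact ⟨a, ha, h5⟩
  · intro c hc hq a ha b hb hab hpa hpb hla hlb
    have h4 := ((h3 c hc hq).2.2 a ha hpa).2 hla b hb hab hpb hlb
    constructor
    · intro h5
      rw [if_pos h5, Nat.beq_eq] at h4
      exact h4
    · intro h5
      rw [if_neg (by rw [h5]; decide), Nat.blt_eq] at h4
      exact h4

section

variable {G : Type*} [Group G] {W : Type*} [AddCommGroup W] [Module (ZMod 2) W]
  {D : Set G} {Q : QuadraticForm (ZMod 2) W} {vec : G → W}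

/-- the elements obtained by going down in the table -/
inductive Rel (n : ℕ) (q : ℕ → Bool) (A : List ℕ) (h : ℕ → ℕ) (τ : ℕ → G) : ℕ → G → Prop
  | base (a : ℕ) : a ∈ A → Rel n q A h τ a (τ a)
  | step (c : ℕ) (g : G) (a : ℕ) : c < 2 ^ n → q c = true → a ∈ A → P q c a = true → h (c ^^^ a) < h c →
      Rel n q A h τ (c ^^^ a) g → Rel n q A h τ c (τ a * g * τ a)

theorem xx (c a : ℕ) : c ^^^ a ^^^ a = c := by rw [Nat.xor_assoc, Nat.xor_self, Nat.xor_zero]

/-- **Closed sections from tables.** -/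
theorem exists_sec {n : ℕ} {q : ℕ → Bool} {A : List ℕ} {h : ℕ → ℕ} (O : Ok n q A h) {β : ℕ → W}
    (hx : ∀ c d, β (c ^^^ d) = β c + β d) (hq : ∀ c < 2 ^ n, Q (β c) = if q c = true then 1 else 0)
    (hinj : ∀ c < 2 ^ n, ∀ d < 2 ^ n, β c = β d → c = d) (hsurj : ∀ w, ∃ c < 2 ^ n, β c = w) (L : Lab D Q vec) :
    ∃ s : W → G, Sec D Q vec ⊤ s := by
  classical
  have hlt : ∀ {c d}, c < 2 ^ n → d < 2 ^ n → c ^^^ d < 2 ^ n := fun h1 h2 => Nat.xor_lt_two_pow h1 h2
  have hP : ∀ {c d}, c < 2 ^ n → d < 2 ^ n → (P q c d = true ↔ polar Q (β c) (β d) = 1) := by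
    intro c d hc hd
    have h1 := Q_add (Q := Q) (β c) (β d)
    rw [← hx, hq _ (hlt hc hd), hq c hc, hq d hd] at h1
    rw [P]
    generalize q (c ^^^ d) = x at h1 ⊢
    generalize q c = y at h1 ⊢
    generalize q d = z at h1 ⊢
    rcases zo (polar Q (β c) (β d)) with h2 | h2 <;> rw [h2] at h1 ⊢ <;> revert h1 <;> cases x <;> cases y <;> cases z <;>
      decide
  have hPq : ∀ {c d}, q c = true → q d = true → P q c d = true → q (c ^^^ d) = true := by
    intro c d h1 h2 h3
    rw [P, h1, h2] at h3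
    simpa using h3
  have hq1 : ∀ {c}, c < 2 ^ n → q c = true → Q (β c) = 1 := fun h1 h2 => by rw [hq _ h1, if_pos h2]
  have hPs : ∀ {c d}, P q c d = P q d c := by
    intro c d
    rw [P, P, Nat.xor_comm c d, Bool.xor_comm (q c)]
  -- a choice of lifts
  have hτ : ∀ c : ℕ, ∃ d : G, c < 2 ^ n → q c = true → d ∈ D ∧ vec d = β c := by
    intro c
    by_cases h1 : c < 2 ^ n ∧ q c = true
    · obtain ⟨d, hd, h2⟩ := L.surj (β c) (hq1 h1.1 h1.2)
      exact ⟨d, fun _ _ => ⟨hd, h2⟩⟩
    · exact ⟨1, fun h2 h3 => absurd ⟨h2, h3⟩ h1⟩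
  choose τ hτ using hτ
  have τD : ∀ {a}, a ∈ A → τ a ∈ D := fun h => (hτ _ (O.lt _ h) (O.qa _ h)).1
  have τv : ∀ {a}, a ∈ A → vec (τ a) = β a := fun h => (hτ _ (O.lt _ h) (O.qa _ h)).2
  have τs : ∀ {a}, a ∈ A → τ a * τ a = 1 := fun h => L.sq _ (τD h)
  -- invariants
  have inv : ∀ {c g}, Rel n q A h τ c g → c < 2 ^ n ∧ q c = true ∧ g ∈ D ∧ vec g = β c := by
    intro c g hr
    induction hr with
    | base a ha => exact ⟨O.lt _ ha, O.qa _ ha, τD ha, τv ha⟩
    | step c g a hc hqc ha hp hl _ ih =>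
      obtain ⟨h1, h2, h3, h4⟩ := ih
      have h5 : polar Q (vec (τ a)) (vec g) = 1 := by
        rw [τv ha, h4, ← hP (O.lt _ ha) h1, P]
        rw [show a ^^^ (c ^^^ a) = c by rw [Nat.xor_comm, xx], hqc, O.qa _ ha, h2]
        rfl
      refine ⟨hc, hqc, L.mem _ (τD ha) _ h3 h5, ?_⟩
      rw [L.add _ (τD ha) _ h3 h5, τv ha, h4, ← hx, Nat.xor_comm, xx]
  -- existence
  have ex : ∀ N c, h c ≤ N → c < 2 ^ n → q c = true → ∃ g, Rel n q A h τ c g := by
    intro N
    induction N with
    | zero =>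
      intro c h1 h2 h3
      have := O.pos c h2 h3
      omega
    | succ N ih =>
      intro c h1 h2 h3
      by_cases h4 : h c = 1
      · exact ⟨_, Rel.base c (O.one c h2 h3 h4)⟩
      · obtain ⟨a, ha, h5, h6⟩ := O.desc c h2 h3 h4
        obtain ⟨g, hg⟩ := ih (c ^^^ a) (by omega) (hlt h2 (O.lt a ha)) (hPq h3 (O.qa a ha) h5)
        exact ⟨_, Rel.step c g a h2 h3 ha h5 h6 hg⟩
  -- uniqueness
  have un : ∀ N c, h c ≤ N → ∀ g g', Rel n q A h τ c g → Rel n q A h τ c g' → g = g' := by
    intro N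
    induction N with
    | zero =>
      intro c h1 g g' hg _
      have := O.pos c (inv hg).1 (inv hg).2.1
      omega
    | succ N ih =>
      intro c h1 g g' hg hg'
      have low : ∀ {a}, a ∈ A → P q c a = true → h (c ^^^ a) < h c → c < 2 ^ n → q c = true → c ∈ A → False := by
        intro a ha h2 h3 h4 h5 h6
        have h7 := O.pos (c ^^^ a) (hlt h4 (O.lt a ha)) (hPq h5 (O.qa a ha) h2)
        have h8 := O.ha c h6
        omega
      cases hg with
      | base _ h2 =>
        cases hg' with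
        | base _ h3 => rfl
        | step _ g3 b h3 h4 h5 h6 h7 h8 => exact (low h5 h6 h7 h3 h4 h2).elim
      | step _ g2 a hc hqc ha hpa hla r2 =>
        cases hg' with
        | base _ h3 => exact (low ha hpa hla hc hqc h3).elim
        | step _ g3 b _ _ hb hpb hlb r3 =>
          by_cases hab : a = b
          · subst hab
            rw [ih _ (by omega) g2 g3 r2 r3]
          obtain ⟨t1, t2⟩ := O.two c hc hqc a ha b hb hab hpa hpb hla hlb
          by_cases hPab : P q a b = true
          · have h3 := t1 hPab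
            have e1 : c ^^^ a = b := by rw [h3, Nat.xor_comm a b, xx]
            have e2 : c ^^^ b = a := by rw [h3, xx]
            rw [e1] at r2 hla
            rw [e2] at r3 hlb
            rw [ih _ (by omega) _ _ r2 (Rel.base b hb), ih _ (by omega) _ _ r3 (Rel.base a ha)]
            apply L.braid _ (τD ha) _ (τD hb)
            rw [τv ha, τv hb, ← hP (O.lt a ha) (O.lt b hb)]
            exact hPab
          · have hPab' : P q a b = false := by simpa using hPab
            have h3 := t2 hPab'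
            have h3' := (O.two c hc hqc b hb a ha (Ne.symm hab) hpb hpa hlb hla).2 (by rw [hPs]; exact hPab')
            have p0 : polar Q (β a) (β b) = 0 := by
              rcases zo (polar Q (β a) (β b)) with h4 | h4
              · exact h4
              · exact absurd ((hP (O.lt a ha) (O.lt b hb)).2 h4) hPab
            have la := hlt hc (O.lt a ha)
            have lb := hlt hc (O.lt b hb)
            have pa : P q (c ^^^ a) b = true := by
              rw [hP la (O.lt b hb), hx, p_add', p0, add_zero]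
              exact (hP hc (O.lt b hb)).1 hpb
            have pb : P q (c ^^^ b) a = true := by
              rw [hP lb (O.lt a ha), hx, p_add', p_comm (β b), p0, add_zero]
              exact (hP hc (O.lt a ha)).1 hpa
            have qa' := hPq hqc (O.qa a ha) hpa
            have qb' := hPq hqc (O.qa b hb) hpb
            have lab := hlt la (O.lt b hb)
            obtain ⟨g4, r4⟩ := ex _ (c ^^^ a ^^^ b) le_rfl lab (hPq qa' (O.qa b hb) pa)
            have r5 := Rel.step (c ^^^ a) g4 b la qa' hb pa h3 r4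
            have e3 : c ^^^ a ^^^ b = c ^^^ b ^^^ a := by rw [Nat.xor_assoc, Nat.xor_comm a b, ← Nat.xor_assoc]
            rw [e3] at r4
            have r6 := Rel.step (c ^^^ b) g4 a lb qb' ha pb h3' r4
            rw [ih _ (by omega) _ _ r2 r5, ih _ (by omega) _ _ r3 r6]
            have hcm : τ a * τ b = τ b * τ a := by
              apply L.comm _ (τD ha) _ (τD hb)
              rw [τv ha, τv hb, p0]
            calc τ a * (τ b * g4 * τ b) * τ a = (τ a * τ b) * g4 * (τ b * τ a) := by simp only [mul_assoc]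
              _ = (τ b * τ a) * g4 * (τ a * τ b) := by rw [hcm]
              _ = _ := by simp only [mul_assoc]
  -- the section on codes
  have hS : ∀ c : ℕ, ∃ g : G, c < 2 ^ n → q c = true → Rel n q A h τ c g := by
    intro c
    by_cases h1 : c < 2 ^ n ∧ q c = true
    · obtain ⟨g, hg⟩ := ex _ c le_rfl h1.1 h1.2
      exact ⟨g, fun _ _ => hg⟩
    · exact ⟨1, fun h2 h3 => absurd ⟨h2, h3⟩ h1⟩
  choose S hS using hS
  have eqS : ∀ {c g}, Rel n q A h τ c g → g = S c := fun {c g} hr =>
    un _ c le_rfl _ _ hr (hS c (inv hr).1 (inv hr).2.1)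
  have SD : ∀ {c}, c < 2 ^ n → q c = true → S c ∈ D := fun h1 h2 => (inv (hS _ h1 h2)).2.2.1
  have Sv : ∀ {c}, c < 2 ^ n → q c = true → vec (S c) = β c := fun h1 h2 => (inv (hS _ h1 h2)).2.2.2
  -- equivariance under the simple elements
  have eqv : ∀ {c a}, c < 2 ^ n → q c = true → a ∈ A → ∃ c', c' < 2 ^ n ∧ q c' = true ∧ τ a * S c * τ a = S c' := by
    intro c a hc hqc ha
    rcases zo (polar Q (β c) (β a)) with hp | hp
    · refine ⟨c, hc, hqc, ?_⟩
      rw [L.comm _ (τD ha) _ (SD hc hqc) (by rw [τv ha, Sv hc hqc, p_comm, hp]), mul_assoc, τs ha, mul_one]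
    · have hp' := (hP hc (O.lt a ha)).2 hp
      have l1 := hlt hc (O.lt a ha)
      have q1 := hPq hqc (O.qa a ha) hp'
      refine ⟨c ^^^ a, l1, q1, ?_⟩
      rcases Nat.lt_or_gt_of_ne (O.ne c hc hqc a ha hp') with h1 | h1
      · have h2 := eqS (Rel.step c _ a hc hqc ha hp' h1 (hS _ l1 q1))
        rw [← h2]
        calc τ a * (τ a * S (c ^^^ a) * τ a) * τ a = (τ a * τ a) * S (c ^^^ a) * (τ a * τ a) := by
              simp only [mul_assoc]
          _ = _ := by rw [τs ha, one_mul, mul_one]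
      · have pp : P q (c ^^^ a) a = true := by
          rw [hP l1 (O.lt a ha), hx, p_add', p_self, add_zero, hp]
        exact eqS (Rel.step (c ^^^ a) (S c) a l1 q1 ha pp (by rw [xx]; exact h1) (by rw [xx]; exact hS c hc hqc))
  have clo : ∀ {c g}, Rel n q A h τ c g → ∀ c', c' < 2 ^ n → q c' = true → ∃ c'', c'' < 2 ^ n ∧ q c'' = true ∧
      g * S c' * g = S c'' := by
    intro c g hr
    induction hr with
    | base a ha => exact fun c' h1 h2 => eqv h1 h2 ha
    | step c g a hc hqc ha hp hl _ ih =>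
      intro c' h1 h2
      obtain ⟨c1, l1, q1, e1⟩ := eqv h1 h2 ha
      obtain ⟨c2, l2, q2, e2⟩ := ih c1 l1 q1
      obtain ⟨c3, l3, q3, e3⟩ := eqv l2 q2 ha
      refine ⟨c3, l3, q3, ?_⟩
      rw [← e3, ← e2, ← e1]
      simp only [mul_assoc]
  -- the section
  choose code hcl hcode using hsurj
  have hqc : ∀ {x}, Q x = 1 → q (code x) = true := by
    intro x hx
    have h1 := hq _ (hcl x)
    rw [hcode, hx] at h1
    by_contra hcon
    rw [if_neg hcon] at h1
    exact absurd h1 (by decide)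
  refine ⟨fun w => S (code w), ?_, ?_, ?_⟩
  · intro x _ qx
    exact SD (hcl x) (hqc qx)
  · intro x _ qx
    rw [Sv (hcl x) (hqc qx), hcode]
  · intro x _ y _ qx qy hp
    obtain ⟨c, l1, q1, e1⟩ := clo (hS _ (hcl x) (hqc qx)) (code y) (hcl y) (hqc qy)
    have e2 := congrArg vec e1
    rw [L.add _ (SD (hcl x) (hqc qx)) _ (SD (hcl y) (hqc qy)) (by
      rw [Sv (hcl x) (hqc qx), Sv (hcl y) (hqc qy), hcode, hcode, hp]), Sv (hcl x) (hqc qx), Sv (hcl y) (hqc qy), hcode,
      hcode, Sv l1 q1, ← hcode (x + y)] at e2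
    change S (code x) * S (code y) * S (code x) = S (code (x + y))
    rw [e1, hinj _ (hcl _) _ l1 e2]

end

end Cfsg.Agent.H838.TT
end

-- part: H838/TTData
section
/-!
# The tables of heights of A7, E6, E8 (helper838, TT2 of S5554)
-/

set_option autoImplicit false

namespace Cfsg.Agent.H838.TT

/-- the height of a code -/
def ht (T : ℕ) (c : ℕ) : ℕ := (T >>> (5 * c)) % 32

/-- the hyperbolic form in dimension 6 -/
def q60 (c : ℕ) : Bool := xor (c.testBit 0 && c.testBit 1) (xor (c.testBit 2 && c.testBit 3) (c.testBit 4 && c.testBit 5))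

/-- the elliptic form in dimension 6 -/
def q61 (c : ℕ) : Bool := xor (q60 c) (xor (c.testBit 4) (c.testBit 5))

/-- the hyperbolic form in dimension 8 -/
def q80 (c : ℕ) : Bool := xor (q60 c) (c.testBit 6 && c.testBit 7)

/-- heights in A7 -/
def tA7 : ℕ := 0x1800001064018a2010a4018e21800008000280000086208000180000800000822080000800008000

/-- heights in E6 -/
def tE6 : ℕ := 0x18000018e201068010a220000014c301487014c11000001d0100c4900c810082a580000800008000

/-- heights in E8 -/
def tE8 : ℕ := 0x20f180000180004800020000021230148a014c430000018e501cc801d02200000526501cd2014dac000002137056ca05ec20292b500001800058000020ed600000800048000052ab60000c8000980001000004a230149000c9c0422f80000e80007800004a6d70000d800088000018af700000800038000100000296100c4c00c820292f7000008000580000316d6000008000680000082d700000800008000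

theorem ok_A7 : Ok 6 q60 [3, 13, 19, 39, 11, 7, 27] (ht tA7) := Ok.of (by decide +kernel)

theorem ok_E6 : Ok 6 q61 [3, 7, 13, 24, 32, 16] (ht tE6) := Ok.of (by decide +kernel)

theorem ok_E8 : Ok 8 q80 [3, 7, 13, 56, 71, 151, 39, 23] (ht tE8) := Ok.of (by decide +kernel)

end Cfsg.Agent.H838.TT
end

-- part: H838/TTStep
section
/-!
# Closed sections: adding a hyperbolic plane (helper838, TT2 of S5554)
-/

set_option autoImplicit false

namespace Cfsg.Agent.H838.TT

open QuadraticMap Cfsg.Agent.LieClassical.OrthCore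

variable {G : Type*} [Group G] {W : Type*} [AddCommGroup W] [Module (ZMod 2) W]
  {D : Set G} {Q : QuadraticForm (ZMod 2) W} {vec : G → W} {s : W → G}

/-- the geometric properties of a subspace -/
structure Geo (Q : QuadraticForm (ZMod 2) W) (T : Submodule (ZMod 2) W) : Prop where
  c0 : ∃ c ∈ T, Q c = 1
  r1 : ∀ c ∈ T, ∀ c' ∈ T, Q c = 1 → Q c' = 1 → polar Q c c' = 0 → c ≠ c' →
    ∃ x ∈ T, Q x = 1 ∧ polar Q x c = 1 ∧ polar Q x c' = 1
  k3 : ∀ w ∈ T, w ≠ 0 → Q w = 0 → ∃ b ∈ T, Q b = 1 ∧ polar Q b w = 0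
  k4 : ∀ w ∈ T, w ≠ 0 → Q w = 0 → ∀ b ∈ T, ∀ b' ∈ T, Q b = 1 → Q b' = 1 → polar Q b w = 0 → polar Q b' w = 0 →
    polar Q b b' = 0 → b ≠ b' → b' ≠ b + w → ∃ x ∈ T, Q x = 1 ∧ polar Q x w = 0 ∧ polar Q x b = 1 ∧ polar Q x b' = 1
  k5 : ∀ w ∈ T, ∀ w' ∈ T, Q w = 0 → Q w' = 0 → polar Q w w' = 1 →
    ∃ b ∈ T, Q b = 1 ∧ polar Q b w = 0 ∧ polar Q b w' = 0

/-- an orthogonal decomposition with a hyperbolic plane -/
structure Dec (Q : QuadraticForm (ZMod 2) W) (T : Submodule (ZMod 2) W) (u v : W) : Prop where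
  qu : Q u = 0
  qv : Q v = 0
  uv : polar Q u v = 1
  tu : ∀ t ∈ T, polar Q t u = 0
  tv : ∀ t ∈ T, polar Q t v = 0
  dec : ∀ w, w ∈ T ∨ w + u ∈ T ∨ w + v ∈ T ∨ w + (u + v) ∈ T

variable {T : Submodule (ZMod 2) W} {u v : W}

theorem mem_sup_iff {w : W} : w ∈ T ⊔ Submodule.span (ZMod 2) {u} ↔ w ∈ T ∨ w + u ∈ T := by
  constructor
  · intro h
    obtain ⟨t, ht, x, hx, rfl⟩ := Submodule.mem_sup.1 h
    obtain ⟨c, rfl⟩ := Submodule.mem_span_singleton.1 hx
    rcases zo c with rfl | rfl
    · left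
      rwa [zero_smul, add_zero]
    · right
      rwa [one_smul, add_assoc, add_self, add_zero]
  · rintro (h | h)
    · exact Submodule.mem_sup_left h
    · have : w = (w + u) + u := by rw [add_assoc, add_self, add_zero]
      rw [this]
      exact Submodule.add_mem_sup h (Submodule.mem_span_singleton_self u)

theorem not_mem_u (d : Dec Q T u v) : u ∉ T := by
  intro h
  have := d.tv u h
  rw [d.uv] at this
  exact absurd this (by decide)

theorem conn_one (g : Geo Q T) (d : Dec Q T u v) {c : W} (hc : c ∈ T) (qc : Q c = 1) : Conn Q T (c + u) := by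
  have hu : ∀ {t}, t ∈ T → polar Q u t = 0 := fun h => by rw [p_comm]; exact d.tu _ h
  have huu : polar Q u u = 0 := p_self u
  -- members of the coset
  have hco : ∀ {a}, a ∈ Co Q T (c + u) ↔ a + u ∈ T ∧ Q (a + u) = 1 := by
    intro a
    have e : a + (c + u) = (a + u) + c := by abel
    constructor
    · rintro ⟨h1, h2⟩
      have h3 : a + u ∈ T := by
        rw [e] at h1
        have := T.add_mem h1 hc
        rwa [add_assoc, add_self, add_zero] at this
      refine ⟨h3, ?_⟩
      have h4 : polar Q a u = 0 := by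
        have := d.tu _ h3
        rwa [p_add', huu, add_zero] at this
      rw [Q_add, h2, d.qu, h4]
      decide
    · rintro ⟨h1, h2⟩
      refine ⟨by rw [e]; exact T.add_mem h1 hc, ?_⟩
      have h4 : polar Q a u = 0 := by
        have := d.tu _ h1
        rwa [p_add', huu, add_zero] at this
      rw [Q_add, d.qu, h4, add_zero, add_zero] at h2
      exact h2
  have hau : ∀ {a}, a ∈ Co Q T (c + u) → polar Q a u = 0 := by
    intro a ha
    have := d.tu _ (hco.1 ha).1
    rwa [p_add', huu, add_zero] at this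
  have hp : ∀ {a b}, a ∈ Co Q T (c + u) → b ∈ Co Q T (c + u) → polar Q (a + u) (b + u) = polar Q a b := by
    intro a b ha hb
    rw [p_add', p_add, p_add, hau ha, huu, p_comm u b, hau hb]
    simp
  have q0 : Q (c + u) = 1 := by
    rw [Q_add, qc, d.qu, d.tu c hc]
    decide
  have h0 : c + u ∈ Co Q T (c + u) := ⟨by rw [add_self]; exact T.zero_mem, q0⟩
  have hcu : ∀ {a}, polar Q c (a + u) = polar Q (c + u + u) (a + u) := by
    intro a
    rw [add_assoc, add_self, add_zero]
  -- third points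
  have third : ∀ {a b}, a ∈ Co Q T (c + u) → b ∈ Co Q T (c + u) → polar Q a b = 1 →
      a + b + u ∈ Co Q T (c + u) ∧ polar Q a (a + b + u) = 1 ∧ polar Q b (a + b + u) = 1 ∧
        ∀ x ∈ Co Q T (c + u), polar Q (a + b + u) x = polar Q a x + polar Q b x := by
    intro a b ha hb hab
    refine ⟨?_, ?_, ?_, ?_⟩
    · rw [hco]
      have e : a + b + u + u = a + b := by rw [add_assoc, add_self, add_zero]
      rw [e]
      exact ⟨add_mem_of ha hb, Q_add_of ha hb hab⟩
    · rw [p_add, p_add, p_self, hab, hau ha]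
      decide
    · rw [p_add, p_add, p_comm b a, p_self, hab, hau hb]
      decide
    · intro x hx
      rw [p_add', p_add', p_comm u x, hau hx, add_zero]
  have nbr : ∀ a ∈ Co Q T (c + u), a ≠ c + u → polar Q (c + u) a = 0 →
      ∃ x ∈ Co Q T (c + u), polar Q (c + u) x = 1 ∧ polar Q x a = 1 := by
    intro a ha hne h
    obtain ⟨h1, h2⟩ := hco.1 ha
    obtain ⟨x, hx, qx, x1, x2⟩ := g.r1 c hc (a + u) h1 qc h2 (by rw [hcu, hp h0 ha, h]) (by
      intro h3
      apply hne
      rw [h3, add_assoc, add_self, add_zero])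
    have hx' : x + u ∈ Co Q T (c + u) := by
      rw [hco, add_assoc, add_self, add_zero]
      exact ⟨hx, qx⟩
    refine ⟨x + u, hx', ?_, ?_⟩
    · rw [← hp h0 hx', add_assoc c, add_self, add_zero, add_assoc x, add_self, add_zero, p_comm]
      exact x1
    · rw [← hp hx' ha, add_assoc x, add_self, add_zero]
      exact x2
  refine ⟨q0, nbr, ?_, ?_⟩
  · intro a ha hne h0a x hx x' hx' h1 h2 h3 h4 h5 hxx
    right
    obtain ⟨t1, t2, t3, t4⟩ := third h0 hx h1
    refine ⟨_, t1, t2, ?_, t3, ?_⟩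
    · rw [t4 a ha, h0a, h2, zero_add]
    · rw [t4 x' hx', h3, h5, add_zero]
  · intro a ha b hb hab h1 h2
    have hne : a ≠ c + u := by
      rintro rfl
      rw [h2] at hab
      exact absurd hab (by decide)
    obtain ⟨x, hx, x1, x2⟩ := nbr a ha hne h1
    rcases zo (polar Q x b) with h3 | h3
    · obtain ⟨t1, t2, t3, t4⟩ := third hx ha x2
      refine ⟨_, t1, ?_, ?_, ?_⟩
      · rw [p_comm, t4 _ h0, p_comm x, x1, p_comm a, h1, add_zero]
      · rw [p_comm, t3]
      · rw [t4 b hb, h3, hab, zero_add]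
    · exact ⟨x, hx, x1, x2, h3⟩

theorem conn_two (g : Geo Q T) (d : Dec Q T u v) : Conn Q (T ⊔ Submodule.span (ZMod 2) {u}) (u + v) := by
  have huu : polar Q u u = 0 := p_self u
  have hvv : polar Q v v = 0 := p_self v
  have hvu : polar Q v u = 1 := by rw [p_comm]; exact d.uv
  have hut : ∀ {t}, t ∈ T → polar Q u t = 0 := fun h => by rw [p_comm]; exact d.tu _ h
  have hvt : ∀ {t}, t ∈ T → polar Q v t = 0 := fun h => by rw [p_comm]; exact d.tv _ h
  have q0 : Q (u + v) = 1 := by
    rw [Q_add, d.qu, d.qv, d.uv]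
    decide
  -- the two kinds of members
  have kinds : ∀ a ∈ Co Q (T ⊔ Submodule.span (ZMod 2) {u}) (u + v),
      (∃ t ∈ T, Q t = 1 ∧ a = t + v) ∨ ∃ t ∈ T, Q t = 0 ∧ a = t + (u + v) := by
    rintro a ⟨h1, h2⟩
    rcases mem_sup_iff.1 h1 with h3 | h3
    · right
      have e : a = (a + (u + v)) + (u + v) := by rw [add_assoc, add_self, add_zero]
      refine ⟨a + (u + v), h3, ?_, e⟩
      rw [e, Q_add, q0, p_add, d.tu _ h3, d.tv _ h3] at h2
      rcases zo (Q (a + (u + v))) with h4 | h4
      · exact h4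
      · rw [h4] at h2
        exact absurd h2 (by decide)
    · left
      have e0 : a + (u + v) + u = a + v := by
        have : a + (u + v) + u = a + v + (u + u) := by abel
        rw [this, add_self, add_zero]
      rw [e0] at h3
      have e : a = (a + v) + v := by rw [add_assoc, add_self, add_zero]
      refine ⟨a + v, h3, ?_, e⟩
      rw [e, Q_add, d.qv, d.tv _ h3, add_zero, add_zero] at h2
      exact h2
  have mk1 : ∀ {t}, t ∈ T → Q t = 1 → t + v ∈ Co Q (T ⊔ Submodule.span (ZMod 2) {u}) (u + v) := by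
    intro t ht qt
    refine ⟨?_, ?_⟩
    · rw [mem_sup_iff]
      right
      have : t + v + (u + v) + u = t + (v + v) + (u + u) := by abel
      rw [this, add_self, add_self, add_zero, add_zero]
      exact ht
    · rw [Q_add, qt, d.qv, d.tv t ht]
      decide
  -- pairings
  have p11 : ∀ {t t'}, t ∈ T → t' ∈ T → polar Q (t + v) (t' + v) = polar Q t t' := by
    intro t t' ht ht'
    rw [p_add', p_add, p_add, d.tv t ht, hvt ht', hvv]
    simp
  have p12 : ∀ {t t'}, t ∈ T → t' ∈ T → polar Q (t + v) (t' + (u + v)) = polar Q t t' + 1 := by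
    intro t t' ht ht'
    rw [p_add', p_add, p_add, p_add, p_add, d.tu t ht, d.tv t ht, hvt ht', hvu, hvv]
    simp
  have p22 : ∀ {t t'}, t ∈ T → t' ∈ T → polar Q (t + (u + v)) (t' + (u + v)) = polar Q t t' := by
    intro t t' ht ht'
    rw [p_add', p_add, p_add, p_add, d.tu t ht, d.tv t ht, p_self, p_add', hut ht', hvt ht']
    simp
  have p01 : ∀ {t}, t ∈ T → polar Q (u + v) (t + v) = 1 := by
    intro t ht
    have := p12 ht T.zero_mem
    rw [zero_add, polar_zero_right, zero_add] at this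
    rw [p_comm]
    exact this
  have p02 : ∀ {t}, t ∈ T → polar Q (u + v) (t + (u + v)) = 0 := by
    intro t ht
    have := p22 T.zero_mem ht
    rwa [zero_add, polar_zero_left] at this
  refine ⟨q0, ?_, ?_, ?_⟩
  · intro a ha hne h0a
    rcases kinds a ha with ⟨w, hw, qw, rfl⟩ | ⟨w, hw, qw, rfl⟩
    · rw [p01 hw] at h0a
      exact absurd h0a (by decide)
    · have hw0 : w ≠ 0 := by
        rintro rfl
        exact hne (zero_add _)
      obtain ⟨b, hb, qb, hbw⟩ := g.k3 w hw hw0 qw
      refine ⟨b + v, mk1 hb qb, p01 hb, ?_⟩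
      rw [p12 hb hw, hbw, zero_add]
  · intro a ha hne h0a x hx x' hx' h1 h2 h3 h4 h5 hxx
    rcases kinds a ha with ⟨w, hw, qw, rfl⟩ | ⟨w, hw, qw, rfl⟩
    · rw [p01 hw] at h0a
      exact absurd h0a (by decide)
    rcases kinds x hx with ⟨b, hb, qb, rfl⟩ | ⟨b, hb, qb, rfl⟩
    swap
    · rw [p02 hb] at h1
      exact absurd h1 (by decide)
    rcases kinds x' hx' with ⟨b', hb', qb', rfl⟩ | ⟨b', hb', qb', rfl⟩
    swap
    · rw [p02 hb'] at h3
      exact absurd h3 (by decide)
    have hw0 : w ≠ 0 := by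
      rintro rfl
      exact hne (zero_add _)
    rw [p12 hb hw] at h2
    rw [p12 hb' hw] at h4
    rw [p11 hb hb'] at h5
    have hbw : polar Q b w = 0 := by
      rcases zo (polar Q b w) with h | h
      · exact h
      · rw [h] at h2
        exact absurd h2 (by decide)
    have hbw' : polar Q b' w = 0 := by
      rcases zo (polar Q b' w) with h | h
      · exact h
      · rw [h] at h4
        exact absurd h4 (by decide)
    have hbb : b ≠ b' := fun h => hxx (by rw [h])
    by_cases hbb' : b' = b + w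
    · left
      rw [hbb']
      have : u + v + (b + v) + (w + (u + v)) + (b + w + v) = (u + u) + (v + v) + (v + v) + (b + b) + (w + w) := by
        abel
      rw [this]
      simp only [add_self]
    · right
      obtain ⟨z, hz, qz, z1, z2, z3⟩ := g.k4 w hw hw0 qw b hb b' hb' qb qb' hbw hbw' h5 hbb hbb'
      refine ⟨z + v, mk1 hz qz, p01 hz, ?_, ?_, ?_⟩
      · rw [p12 hz hw, z1, zero_add]
      · rw [p11 hb hz, p_comm, z2]
      · rw [p11 hz hb', z3]
  · intro a ha b hb hab h1 h2
    rcases kinds a ha with ⟨w, hw, qw, rfl⟩ | ⟨w, hw, qw, rfl⟩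
    · rw [p01 hw] at h1
      exact absurd h1 (by decide)
    rcases kinds b hb with ⟨w', hw', qw', rfl⟩ | ⟨w', hw', qw', rfl⟩
    · rw [p01 hw'] at h2
      exact absurd h2 (by decide)
    rw [p22 hw hw'] at hab
    obtain ⟨z, hz, qz, z1, z2⟩ := g.k5 w hw w' hw' qw qw' hab
    refine ⟨z + v, mk1 hz qz, p01 hz, ?_, ?_⟩
    · rw [p12 hz hw, z1, zero_add]
    · rw [p12 hz hw', z2, zero_add]

/-- **Adding a hyperbolic plane.** -/
theorem Sec.step (L : Lab D Q vec) (S : Sec D Q vec T s) (g : Geo Q T) (d : Dec Q T u v) :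
    ∃ s' : W → G, Sec D Q vec ⊤ s' := by
  obtain ⟨c, hc, qc⟩ := g.c0
  obtain ⟨s1, S1⟩ := S.ext L (conn_one g d hc qc) (by
    intro h
    apply not_mem_u d
    have := T.add_mem hc h
    rwa [add_cancel2] at this) (T ⊔ Submodule.span (ZMod 2) {u}) (by
    intro w hw
    rcases mem_sup_iff.1 hw with h | h
    · exact Or.inl h
    · right
      have e : w + (c + u) = (w + u) + c := by abel
      rw [e]
      exact T.add_mem h hc)
  refine S1.ext L (conn_two g d) ?_ ⊤ ?_
  · intro h
    rcases mem_sup_iff.1 h with h1 | h1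
    · have := d.tu _ h1
      rw [p_add', p_self, zero_add, p_comm, d.uv] at this
      exact absurd this (by decide)
    · have e : u + v + u = v := by rw [add_right_comm, add_self, zero_add]
      rw [e] at h1
      have := d.tu _ h1
      rw [p_comm, d.uv] at this
      exact absurd this (by decide)
  · intro w _
    rw [mem_sup_iff, mem_sup_iff]
    have e : w + (u + v) + u = w + v := by
      have : w + (u + v) + u = w + v + (u + u) := by abel
      rw [this, add_self, add_zero]
    rw [e]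
    rcases d.dec w with h | h | h | h
    · exact Or.inl (Or.inl h)
    · exact Or.inl (Or.inr h)
    · exact Or.inr (Or.inr h)
    · exact Or.inr (Or.inl h)

end Cfsg.Agent.H838.TT
end

-- part: H838/TTLin
section
/-!
# Quadratic spaces over `F_2` of dimension at least six (helper838, TT2 of S5554)
-/

set_option autoImplicit false

namespace Cfsg.Agent.H838.TT

open QuadraticMap Cfsg.Agent.LieClassical.OrthCore

variable {W : Type*} [AddCommGroup W] [Module (ZMod 2) W] [FiniteDimensional (ZMod 2) W]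
  {Q : QuadraticForm (ZMod 2) W}

/-- pairing with a family -/
def pm (Q : QuadraticForm (ZMod 2) W) {k : ℕ} (b : Fin k → W) : W →ₗ[ZMod 2] (Fin k → ZMod 2) :=
  LinearMap.pi fun i => polarBilin Q (b i)

omit [FiniteDimensional (ZMod 2) W] in
theorem pm_apply {k : ℕ} (b : Fin k → W) (x : W) (i : Fin k) : pm Q b x i = polar Q x (b i) := by
  rw [p_comm]
  simp [pm]

omit [FiniteDimensional (ZMod 2) W] in
theorem pm_surjective (hQ : Nondeg Q) {k : ℕ} {b : Fin k → W} (hb : LinearIndependent (ZMod 2) b) :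
    Function.Surjective (pm Q b) := by
  rw [← LinearMap.range_eq_top]
  by_contra hne
  obtain ⟨φ, hφ, hker⟩ := Submodule.exists_le_ker_of_lt_top _ (lt_top_iff_ne_top.2 hne)
  apply hφ
  have h1 : ∀ y : Fin k → ZMod 2, φ y = ∑ i, y i * φ (Pi.single i 1) := by
    intro y
    conv_lhs => rw [pi_eq_sum_univ y (R := ZMod 2)]
    rw [map_sum]
    refine Finset.sum_congr rfl fun i _ => ?_
    rw [map_smul, smul_eq_mul]
    congr 2
    funext j
    simp [Pi.single_apply, eq_comm]
  have h2 : ∑ i, φ (Pi.single i 1) • b i = 0 := by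
    apply hQ
    intro x
    have h3 : φ (pm Q b x) = 0 := hker ⟨x, rfl⟩
    rw [h1] at h3
    rw [p_comm]
    have h4 : polar Q x (∑ i, φ (Pi.single i 1) • b i) = ∑ i, φ (Pi.single i 1) * polar Q x (b i) := by
      have h5 : polar Q x (∑ i, φ (Pi.single i 1) • b i) = polarBilin Q x (∑ i, φ (Pi.single i 1) • b i) := rfl
      rw [h5, map_sum]
      refine Finset.sum_congr rfl fun i _ => ?_
      rw [map_smul, smul_eq_mul]
      rfl
    rw [h4, ← h3]
    refine Finset.sum_congr rfl fun i _ => ?_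
    rw [pm_apply, mul_comm]
  have h3 := Fintype.linearIndependent_iff.1 hb _ h2
  apply LinearMap.ext
  intro y
  rw [h1, LinearMap.zero_apply]
  exact Finset.sum_eq_zero fun i _ => by rw [h3 i, mul_zero]

/-- totally isotropic subspaces are small -/
theorem isotropic_le (hQ : Nondeg Q) (K : Submodule (ZMod 2) W) (hK : ∀ x ∈ K, ∀ y ∈ K, polar Q x y = 0) :
    2 * Module.finrank (ZMod 2) K ≤ Module.finrank (ZMod 2) W := by
  let b := Module.finBasis (ZMod 2) K
  have hb : LinearIndependent (ZMod 2) (fun i => (b i : W)) := by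
    have := b.linearIndependent.map' K.subtype (Submodule.ker_subtype K)
    exact this
  have h1 := LinearMap.finrank_range_add_finrank_ker (pm Q (fun i => (b i : W)))
  rw [LinearMap.range_eq_top.2 (pm_surjective hQ hb), finrank_top, Module.finrank_fin_fun] at h1
  have h2 : K ≤ LinearMap.ker (pm Q (fun i => (b i : W))) := by
    intro x hx
    rw [LinearMap.mem_ker]
    funext i
    rw [pm_apply]
    exact hK x hx _ (b i).2
  have h3 := Submodule.finrank_mono h2
  omega

/-- a vector with `Q = 1` and prescribed pairings -/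
theorem exists_one (hQ : Nondeg Q) {k : ℕ} (b : Fin k → W) (hk : 2 * k < Module.finrank (ZMod 2) W) (x0 : W) :
    ∃ x, (∀ i, polar Q x (b i) = polar Q x0 (b i)) ∧ Q x = 1 := by
  by_contra hcon
  push Not at hcon
  have h1 : ∀ y ∈ LinearMap.ker (pm Q b), Q (x0 + y) = 0 := by
    intro y hy
    have h2 := hcon (x0 + y) (by
      intro i
      have h3 := congrFun (LinearMap.mem_ker.1 hy) i
      rw [pm_apply] at h3
      rw [p_add', h3, Pi.zero_apply, add_zero])
    rcases zo (Q (x0 + y)) with h | h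
    · exact h
    · exact absurd h h2
  have h0 : Q x0 = 0 := by
    have := h1 0 (Submodule.zero_mem _)
    rwa [add_zero] at this
  have h2 : ∀ y ∈ LinearMap.ker (pm Q b), Q y = polar Q x0 y := by
    intro y hy
    have h3 := h1 y hy
    rw [Q_add, h0, zero_add] at h3
    rcases zo (Q y) with h | h <;> rcases zo (polar Q x0 y) with h' | h'
    · rw [h, h']
    · rw [h, h'] at h3
      exact absurd h3 (by decide)
    · rw [h, h'] at h3
      exact absurd h3 (by decide)
    · rw [h, h']
  have h3 := isotropic_le hQ (LinearMap.ker (pm Q b)) (by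
    intro x hx y hy
    have h4 := h2 (x + y) (Submodule.add_mem _ hx hy)
    rw [Q_add, h2 x hx, h2 y hy, p_add] at h4
    have h5 : polar Q x0 x + polar Q x0 y + polar Q x y = (polar Q x0 x + polar Q x0 y) + 0 := by rw [h4, add_zero]
    exact add_left_cancel h5)
  have h4 := LinearMap.finrank_range_add_finrank_ker (pm Q b)
  have h5 : Module.finrank (ZMod 2) (LinearMap.range (pm Q b)) ≤ k := by
    have := Submodule.finrank_le (LinearMap.range (pm Q b))
    rwa [Module.finrank_fin_fun] at this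
  omega

omit [FiniteDimensional (ZMod 2) W] in
theorem indep2 {a b : W} (ha : a ≠ 0) (hb : b ≠ 0) (hab : a ≠ b) : LinearIndependent (ZMod 2) ![a, b] := by
  rw [LinearIndependent.pair_iff]
  intro s t h
  rcases zo s with rfl | rfl <;> rcases zo t with rfl | rfl
  · exact ⟨rfl, rfl⟩
  · rw [zero_smul, one_smul, zero_add] at h
    exact absurd h hb
  · rw [zero_smul, one_smul, add_zero] at h
    exact absurd h ha
  · rw [one_smul, one_smul] at h
    exact absurd (add_right_cancel (h.trans (add_self b).symm)) hab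

omit [FiniteDimensional (ZMod 2) W] in
theorem indep3 {a b c : W} (ha : a ≠ 0) (hb : b ≠ 0) (hc : c ≠ 0) (hab : a ≠ b) (hac : a ≠ c) (hbc : b ≠ c)
    (habc : a + b + c ≠ 0) : LinearIndependent (ZMod 2) ![a, b, c] := by
  rw [Fintype.linearIndependent_iff]
  intro g h
  rw [Fin.sum_univ_three] at h
  change g 0 • a + g 1 • b + g 2 • c = 0 at h
  have e : ∀ {x y : W}, x + y = 0 → x = y := fun {x y} h => add_right_cancel (h.trans (add_self y).symm)
  have key : g 0 = 0 ∧ g 1 = 0 ∧ g 2 = 0 := by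
    rcases zo (g 0) with h0 | h0 <;> rcases zo (g 1) with h1 | h1 <;> rcases zo (g 2) with h2 | h2 <;>
      rw [h0, h1, h2] at h <;> simp only [zero_smul, one_smul, zero_add, add_zero] at h
    · exact ⟨h0, h1, h2⟩
    · exact absurd h hc
    · exact absurd h hb
    · exact absurd (e h) hbc
    · exact absurd h ha
    · exact absurd (e h) hac
    · exact absurd (e h) hab
    · exact absurd h habc
  intro i
  fin_cases i
  · exact key.1
  · exact key.2.1
  · exact key.2.2

omit [FiniteDimensional (ZMod 2) W] in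
theorem ne_zero_of_q {a : W} (h : Q a = 1) : a ≠ 0 := by
  rintro rfl
  rw [QuadraticMap.map_zero] at h
  exact absurd h (by decide)

/-- pairing with two vectors -/
theorem one2 (hQ : Nondeg Q) (hd : 4 < Module.finrank (ZMod 2) W) {a b : W} (ha : a ≠ 0) (hb : b ≠ 0) (hab : a ≠ b)
    (s t : ZMod 2) : ∃ x, Q x = 1 ∧ polar Q x a = s ∧ polar Q x b = t := by
  obtain ⟨x0, hx0⟩ := pm_surjective hQ (indep2 ha hb hab) ![s, t]
  obtain ⟨x, hx, qx⟩ := exists_one hQ ![a, b] (by omega) x0
  refine ⟨x, qx, ?_, ?_⟩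
  · have := hx 0
    rw [← pm_apply (Q := Q) ![a, b] x0, hx0] at this
    exact this
  · have := hx 1
    rw [← pm_apply (Q := Q) ![a, b] x0, hx0] at this
    exact this

/-- dimension at least six, up to the condition `k4` -/
theorem geo_of (hQ : Nondeg Q) (hd : 4 < Module.finrank (ZMod 2) W)
    (k4 : ∀ w : W, w ≠ 0 → Q w = 0 → ∀ b b' : W, Q b = 1 → Q b' = 1 → polar Q b w = 0 → polar Q b' w = 0 →
      polar Q b b' = 0 → b ≠ b' → b' ≠ b + w → ∃ x : W, Q x = 1 ∧ polar Q x w = 0 ∧ polar Q x b = 1 ∧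
        polar Q x b' = 1) : Geo Q ⊤ where
  c0 := by
    obtain ⟨x, -, qx⟩ := exists_one hQ (k := 0) ![] (by omega) 0
    exact ⟨x, trivial, qx⟩
  r1 := by
    intro c _ c' _ qc qc' _ hne
    obtain ⟨x, qx, h1, h2⟩ := one2 hQ hd (ne_zero_of_q qc) (ne_zero_of_q qc') hne 1 1
    exact ⟨x, trivial, qx, h1, h2⟩
  k3 := by
    intro w _ hw _
    obtain ⟨x, hx, qx⟩ := exists_one hQ (k := 1) ![w] (by omega) 0
    refine ⟨x, trivial, qx, ?_⟩
    have := hx 0
    rw [polar_zero_left] at this
    exact this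
  k4 := by
    intro w _ hw qw b _ b' _ qb qb' h1 h2 h3 h4 h5
    obtain ⟨x, h⟩ := k4 w hw qw b b' qb qb' h1 h2 h3 h4 h5
    exact ⟨x, trivial, h⟩
  k5 := by
    intro w _ w' _ _ _ _
    obtain ⟨x, hx, qx⟩ := exists_one hQ (k := 2) ![w, w'] (by omega) 0
    refine ⟨x, trivial, qx, ?_, ?_⟩
    · have := hx 0
      rw [polar_zero_left] at this
      exact this
    · have := hx 1
      rw [polar_zero_left] at this
      exact this

/-- dimension at least eight -/
theorem geo_eight (hQ : Nondeg Q) (hd : 6 < Module.finrank (ZMod 2) W) : Geo Q ⊤ := by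
  refine geo_of hQ (by omega) ?_
  intro w hw qw b b' qb qb' h1 h2 h3 h4 h5
  have e : ∀ {x y : W}, x + y = 0 → x = y := fun {x y} h => add_right_cancel (h.trans (add_self y).symm)
  have hind : LinearIndependent (ZMod 2) ![w, b, b'] := by
    apply indep3 hw (ne_zero_of_q qb) (ne_zero_of_q qb')
    · rintro rfl
      rw [qw] at qb
      exact absurd qb (by decide)
    · rintro rfl
      rw [qw] at qb'
      exact absurd qb' (by decide)
    · exact h4
    · intro h
      apply h5
      rw [add_comm b w]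
      exact (e h).symm
  obtain ⟨x0, hx0⟩ := pm_surjective hQ hind ![0, 1, 1]
  obtain ⟨x, hx, qx⟩ := exists_one hQ ![w, b, b'] (by omega) x0
  have h : ∀ i, polar Q x (![w, b, b'] i) = (![0, 1, 1] : Fin 3 → ZMod 2) i := by
    intro i
    rw [hx i, ← pm_apply, hx0]
  exact ⟨x, qx, h 0, h 1, h 2⟩

/-- dimension six, no totally singular subspace of dimension three -/
theorem geo_six (hQ : Nondeg Q) (hd : 4 < Module.finrank (ZMod 2) W)
    (hs : ∀ a b c : W, Q a = 0 → Q b = 0 → Q c = 0 → polar Q a b = 0 → polar Q a c = 0 → polar Q b c = 0 →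
      a = 0 ∨ b = 0 ∨ c = 0 ∨ a = b ∨ a = c ∨ b = c ∨ a + b + c = 0) : Geo Q ⊤ := by
  refine geo_of hQ hd ?_
  intro w hw qw b b' qb qb' h1 h2 h3 h4 h5
  have e : ∀ {x y : W}, x + y = 0 → x = y := fun {x y} h => add_right_cancel (h.trans (add_self y).symm)
  have hind : LinearIndependent (ZMod 2) ![w, b, b'] := by
    apply indep3 hw (ne_zero_of_q qb) (ne_zero_of_q qb')
    · rintro rfl
      rw [qw] at qb
      exact absurd qb (by decide)
    · rintro rfl
      rw [qw] at qb'
      exact absurd qb' (by decide)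
    · exact h4
    · intro h
      apply h5
      rw [add_comm b w]
      exact (e h).symm
  obtain ⟨x, hx0⟩ := pm_surjective hQ hind ![0, 1, 1]
  have h : ∀ i, polar Q x (![w, b, b'] i) = (![0, 1, 1] : Fin 3 → ZMod 2) i := by
    intro i
    rw [← pm_apply, hx0]
  have x1 : polar Q x w = 0 := h 0
  have x2 : polar Q x b = 1 := h 1
  have x3 : polar Q x b' = 1 := h 2
  refine ⟨x, ?_, x1, x2, x3⟩
  rcases zo (Q x) with qx | qx
  swap
  · exact qx
  exfalso
  have qbb : Q (b + b') = 0 := by
    rw [Q_add, qb, qb', h3]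
    decide
  rcases hs w (b + b') x qw qbb qx (by rw [p_comm, p_add', h1, h2, add_zero]) (by rw [p_comm, x1])
    (by rw [p_comm, p_add, x2, x3]; decide) with k | k | k | k | k | k | k
  · exact hw k
  · exact h4 (e k)
  · rw [k, polar_zero_left] at x2
    exact absurd x2 (by decide)
  · apply h5
    rw [k, add_cancel2]
  · rw [← k, p_comm, h1] at x2
    exact absurd x2 (by decide)
  · rw [← k, p_add', p_self, zero_add, p_comm, h3] at x2
    exact absurd x2 (by decide)
  · have h6 := congrArg (fun y => polar Q y b) k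
    simp only [p_add', polar_zero_left] at h6
    rw [p_comm w b, h1, p_self, p_comm b' b, h3, x2] at h6
    exact absurd h6 (by decide)

end Cfsg.Agent.H838.TT
end

-- part: H838/TTClaim
section
/-!
# Closed sections over all non degenerate quadratic spaces of dimension `2n ≥ 6` over `F_2` (helper838, TT2 of S5554)
-/

set_option autoImplicit false

namespace Cfsg.Agent.H838.TT

open QuadraticMap Cfsg.Agent.LieClassical.OrthCore Cfsg.Agent.LieClassical.OrthTrans
open Cfsg.Agent.LieClassical.OrthFinite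

/-! ### bits -/

/-- the vector of bits -/
def bits (n : ℕ) (c : ℕ) : Fin n → ZMod 2 := fun i => if c.testBit i then 1 else 0

theorem bits_xor (n c d : ℕ) : bits n (c ^^^ d) = bits n c + bits n d := by
  funext i
  rw [bits, Pi.add_apply, bits, bits, Nat.testBit_xor]
  cases c.testBit i <;> cases d.testBit i <;> decide

theorem testBit_of_bits {n c d : ℕ} (h : bits n c = bits n d) (i : ℕ) (hi : i < n) : c.testBit i = d.testBit i := by
  have h1 := congrFun h ⟨i, hi⟩
  simp only [bits] at h1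
  revert h1
  cases c.testBit i <;> cases d.testBit i <;> decide

theorem eq_of_testBit {n c d : ℕ} (hc : c < 2 ^ n) (hd : d < 2 ^ n) (h : ∀ i < n, c.testBit i = d.testBit i) :
    c = d := by
  apply Nat.eq_of_testBit_eq
  intro i
  rcases Nat.lt_or_ge i n with hi | hi
  · exact h i hi
  · rw [Nat.testBit_lt_two_pow (hc.trans_le (Nat.pow_le_pow_right (by norm_num) hi)),
      Nat.testBit_lt_two_pow (hd.trans_le (Nat.pow_le_pow_right (by norm_num) hi))]

section

variable {G : Type*} [Group G] {W : Type*} [AddCommGroup W] [Module (ZMod 2) W]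
  {D : Set G} {Q : QuadraticForm (ZMod 2) W} {vec : G → W}

theorem surj_of_inj {n : ℕ} (hn : 0 < n) (hd : Module.finrank (ZMod 2) W = n) {β : ℕ → W}
    (hinj : ∀ c < 2 ^ n, ∀ d < 2 ^ n, β c = β d → c = d) : ∀ w, ∃ c < 2 ^ n, β c = w := by
  have : Module.Finite (ZMod 2) W := Module.finite_of_finrank_pos (by omega)
  have : Finite W := Module.finite_of_finite (ZMod 2)
  have := Fintype.ofFinite W
  have hc : Fintype.card W = 2 ^ n := by
    rw [Module.card_eq_pow_finrank (K := ZMod 2), ZMod.card, hd]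
  have h1 : Function.Bijective (fun c : Fin (2 ^ n) => β c) := by
    rw [Fintype.bijective_iff_injective_and_card]
    refine ⟨fun c d h => Fin.ext (hinj _ c.2 _ d.2 h), ?_⟩
    rw [Fintype.card_fin, hc]
  intro w
  obtain ⟨c, hc⟩ := h1.2 w
  exact ⟨c, c.2, hc⟩

/-! ### restriction to a subspace -/

open Classical in
/-- the labels in a subspace -/
noncomputable def vecT (vec : G → W) (T : Submodule (ZMod 2) W) (d : G) : T := if h : vec d ∈ T then ⟨vec d, h⟩ else 0

omit [Group G] in
theorem coe_vecT {T : Submodule (ZMod 2) W} {d : G} (h : vec d ∈ T) : (vecT vec T d : W) = vec d := by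
  rw [vecT, dif_pos h]

theorem Lab.restrict (L : Lab D Q vec) (T : Submodule (ZMod 2) W) :
    Lab {d | d ∈ D ∧ vec d ∈ T} (Q.comp T.subtype) (vecT vec T) := by
  have hp : ∀ x y : T, polar (Q.comp T.subtype) x y = polar Q (x : W) (y : W) := fun x y => rfl
  refine ⟨fun d hd => L.sq d hd.1, ?_, ?_, ?_, ?_, ?_, ?_⟩
  · intro d hd
    rw [QuadraticMap.comp_apply, Submodule.subtype_apply, coe_vecT hd.2]
    exact L.q d hd.1
  · intro d hd e he h
    rw [hp, coe_vecT hd.2, coe_vecT he.2] at h
    exact L.comm d hd.1 e he.1 h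
  · intro d hd e he h
    rw [hp, coe_vecT hd.2, coe_vecT he.2] at h
    exact L.braid d hd.1 e he.1 h
  · intro d hd e he h
    rw [hp, coe_vecT hd.2, coe_vecT he.2] at h
    refine ⟨L.mem d hd.1 e he.1 h, ?_⟩
    rw [L.add d hd.1 e he.1 h]
    exact T.add_mem hd.2 he.2
  · intro d hd e he h
    rw [hp, coe_vecT hd.2, coe_vecT he.2] at h
    have h1 := L.add d hd.1 e he.1 h
    apply Subtype.ext
    rw [coe_vecT (by rw [h1]; exact T.add_mem hd.2 he.2), h1, Submodule.coe_add, coe_vecT hd.2, coe_vecT he.2]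
  · intro w hw
    obtain ⟨d, hd, h⟩ := L.surj (w : W) hw
    have h1 : vec d ∈ T := by
      rw [h]
      exact w.2
    refine ⟨d, ⟨hd, h1⟩, ?_⟩
    apply Subtype.ext
    rw [coe_vecT h1, h]

theorem Sec.of_restrict {T : Submodule (ZMod 2) W} {s : T → G}
    (S : Sec {d | d ∈ D ∧ vec d ∈ T} (Q.comp T.subtype) (vecT vec T) ⊤ s) : ∃ s' : W → G, Sec D Q vec T s' := by
  classical
  have hp : ∀ x y : T, polar (Q.comp T.subtype) x y = polar Q (x : W) (y : W) := fun x y => rfl
  have hs : ∀ {x : W} (h : x ∈ T), (if h : x ∈ T then s ⟨x, h⟩ else 1) = s ⟨x, h⟩ := fun h => dif_pos h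
  refine ⟨fun x => if h : x ∈ T then s ⟨x, h⟩ else 1, ?_, ?_, ?_⟩
  · intro x hx qx
    rw [hs hx]
    exact (S.mem ⟨x, hx⟩ trivial qx).1
  · intro x hx qx
    rw [hs hx]
    have h1 := S.mem ⟨x, hx⟩ trivial qx
    have h2 := congrArg Subtype.val (S.lab ⟨x, hx⟩ trivial qx)
    rwa [coe_vecT h1.2] at h2
  · intro x hx y hy qx qy h
    rw [hs hx, hs hy, hs (T.add_mem hx hy)]
    exact S.conj ⟨x, hx⟩ trivial ⟨y, hy⟩ trivial qx qy h

theorem Geo.of_restrict {T : Submodule (ZMod 2) W} (g : Geo (Q.comp T.subtype) ⊤) : Geo Q T := by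
  refine ⟨?_, ?_, ?_, ?_, ?_⟩
  · obtain ⟨c, -, h⟩ := g.c0
    exact ⟨c, c.2, h⟩
  · intro c hc c' hc' h1 h2 h3 h4
    obtain ⟨x, -, h5, h6, h7⟩ := g.r1 ⟨c, hc⟩ trivial ⟨c', hc'⟩ trivial h1 h2 h3
      (fun h => h4 (congrArg Subtype.val h))
    exact ⟨x, x.2, h5, h6, h7⟩
  · intro w hw h0 h1
    obtain ⟨b, -, h5, h6⟩ := g.k3 ⟨w, hw⟩ trivial (fun h => h0 (congrArg Subtype.val h)) h1
    exact ⟨b, b.2, h5, h6⟩
  · intro w hw h0 h1 b hb b' hb' h2 h3 h4 h5 h6 h7 h8
    obtain ⟨x, -, h9, h10, h11, h12⟩ := g.k4 ⟨w, hw⟩ trivial (fun h => h0 (congrArg Subtype.val h)) h1 ⟨b, hb⟩ trivial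
      ⟨b', hb'⟩ trivial h2 h3 h4 h5 h6 (fun h => h7 (congrArg Subtype.val h)) (fun h => h8 (congrArg Subtype.val h))
    exact ⟨x, x.2, h9, h10, h11, h12⟩
  · intro w hw w' hw' h1 h2 h3
    obtain ⟨b, -, h5, h6, h7⟩ := g.k5 ⟨w, hw⟩ trivial ⟨w', hw'⟩ trivial h1 h2 h3
    exact ⟨b, b.2, h5, h6, h7⟩

/-! ### the complement of a hyperbolic plane -/

/-- the complement -/
def pp (Q : QuadraticForm (ZMod 2) W) (u v : W) : Submodule (ZMod 2) W :=
  LinearMap.ker (polarBilin Q u) ⊓ LinearMap.ker (polarBilin Q v)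

theorem mem_pp {u v w : W} : w ∈ pp Q u v ↔ polar Q u w = 0 ∧ polar Q v w = 0 := Iff.rfl

theorem dec_pp {u v : W} (h : Hyp Q u v) : Dec Q (pp Q u v) u v := by
  have huv := h.pair
  have hvu := h.pair'
  refine ⟨h.left, h.right, huv, ?_, ?_, ?_⟩
  · intro t ht
    rw [p_comm]
    exact (mem_pp.1 ht).1
  · intro t ht
    rw [p_comm]
    exact (mem_pp.1 ht).2
  · intro w
    simp only [mem_pp, p_add, p_self, huv, hvu]
    rcases zo (polar Q u w) with h1 | h1 <;> rcases zo (polar Q v w) with h2 | h2 <;> rw [h1, h2] <;> decide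

theorem nondeg_pp (hQ : Nondeg Q) {u v : W} (h : Hyp Q u v) : Nondeg (Q.comp (pp Q u v).subtype) := by
  intro x hx
  apply Subtype.ext
  apply hQ
  intro y
  have hxu : polar Q (x : W) u = 0 := by rw [p_comm]; exact (mem_pp.1 x.2).1
  have hxv : polar Q (x : W) v = 0 := by rw [p_comm]; exact (mem_pp.1 x.2).2
  rcases (dec_pp h).dec y with h1 | h1 | h1 | h1
  · exact hx ⟨y, h1⟩
  · have h2 : polar Q (x : W) (y + u) = 0 := hx ⟨_, h1⟩
    rwa [p_add, hxu, add_zero] at h2
  · have h2 : polar Q (x : W) (y + v) = 0 := hx ⟨_, h1⟩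
    rwa [p_add, hxv, add_zero] at h2
  · have h2 : polar Q (x : W) (y + (u + v)) = 0 := hx ⟨_, h1⟩
    rwa [p_add, p_add, hxu, hxv, add_zero, add_zero] at h2

theorem finrank_pp {u v : W} (hd : 0 < Module.finrank (ZMod 2) W) (h : Hyp Q u v) :
    Module.finrank (ZMod 2) (pp Q u v) + 2 = Module.finrank (ZMod 2) W := by
  have : Module.Finite (ZMod 2) W := Module.finite_of_finrank_pos hd
  let f : W →ₗ[ZMod 2] (ZMod 2 × ZMod 2) := (polarBilin Q u).prod (polarBilin Q v)
  have h1 := LinearMap.finrank_range_add_finrank_ker f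
  have h2 : LinearMap.range f = ⊤ := by
    rw [LinearMap.range_eq_top]
    rintro ⟨a, b⟩
    refine ⟨a • v + b • u, ?_⟩
    change (polar Q u (a • v + b • u), polar Q v (a • v + b • u)) = (a, b)
    rw [p_add, p_add, polar_smul_right, polar_smul_right, polar_smul_right, polar_smul_right, h.pair, h.pair', p_self,
      p_self]
    simp
  have h3 : LinearMap.ker f = pp Q u v := by
    ext w
    rw [LinearMap.mem_ker, mem_pp]
    exact Prod.ext_iff
  rw [h2, h3, finrank_top, Module.finrank_prod, Module.finrank_self] at h1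
  omega

/-! ### dimensions 6 and 8 -/

/-- the coding of a space of dimension 6 -/
theorem inj6 (e : (Fin 6 → ZMod 2) ≃ₗ[ZMod 2] W) : ∀ c < 2 ^ 6, ∀ d < 2 ^ 6, e (bits 6 c) = e (bits 6 d) → c = d :=
  fun _ hc _ hd h => eq_of_testBit hc hd (testBit_of_bits (e.injective h))

theorem aux0 : ∀ b0 b1 b2 b3 b4 b5 : Bool, (if b0 = true then 1 else 0) * (if b1 = true then 1 else 0) +
    (if b2 = true then 1 else 0) * (if b3 = true then 1 else 0) +
    (if b4 = true then 1 else 0) * (if b5 = true then 1 else 0) +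
    (0 : ZMod 2) * ((if b4 = true then 1 else 0) * (if b4 = true then 1 else 0) +
    (if b5 = true then 1 else 0) * (if b5 = true then 1 else 0)) =
    if (xor (b0 && b1) (xor (b2 && b3) (b4 && b5))) = true then 1 else 0 := by decide

theorem aux1 : ∀ b0 b1 b2 b3 b4 b5 : Bool, (if b0 = true then 1 else 0) * (if b1 = true then 1 else 0) +
    (if b2 = true then 1 else 0) * (if b3 = true then 1 else 0) +
    (if b4 = true then 1 else 0) * (if b5 = true then 1 else 0) +
    (1 : ZMod 2) * ((if b4 = true then 1 else 0) * (if b4 = true then 1 else 0) +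
    (if b5 = true then 1 else 0) * (if b5 = true then 1 else 0)) =
    if (xor (xor (b0 && b1) (xor (b2 && b3) (b4 && b5))) (xor b4 b5)) = true then 1 else 0 := by decide

theorem qf_bits (c : ℕ) : Fischer920.IsoO.qf 0 (bits 6 c) = if q60 c = true then 1 else 0 :=
  aux0 (c.testBit 0) (c.testBit 1) (c.testBit 2) (c.testBit 3) (c.testBit 4) (c.testBit 5)

theorem qf_bits1 (c : ℕ) : Fischer920.IsoO.qf 1 (bits 6 c) = if q61 c = true then 1 else 0 :=
  aux1 (c.testBit 0) (c.testBit 1) (c.testBit 2) (c.testBit 3) (c.testBit 4) (c.testBit 5)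

theorem sec_plus (L : Lab D Q vec) (e : (Fin 6 → ZMod 2) ≃ₗ[ZMod 2] W)
    (he : ∀ c, Q (e c) = Fischer920.IsoO.qf 0 c) : ∃ s, Sec D Q vec ⊤ s := by
  refine exists_sec ok_A7 (β := fun c => e (bits 6 c)) ?_ ?_ (inj6 e) (surj_of_inj (by norm_num) ?_ (inj6 e)) L
  · intro c d
    rw [bits_xor, map_add]
  · intro c _
    rw [he, qf_bits]
  · rw [← e.finrank_eq, Module.finrank_fin_fun]

theorem sec_minus (L : Lab D Q vec) (e : (Fin 6 → ZMod 2) ≃ₗ[ZMod 2] W)
    (he : ∀ c, Q (e c) = Fischer920.IsoO.qf 1 c) : ∃ s, Sec D Q vec ⊤ s := by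
  refine exists_sec ok_E6 (β := fun c => e (bits 6 c)) ?_ ?_ (inj6 e) (surj_of_inj (by norm_num) ?_ (inj6 e)) L
  · intro c d
    rw [bits_xor, map_add]
  · intro c _
    rw [he, qf_bits1]
  · rw [← e.finrank_eq, Module.finrank_fin_fun]

/-- no totally singular 3-spaces -/
def noThree : Bool := (List.range 64).all fun a => q61 a || (List.range 64).all fun b => q61 b || P q61 a b ||
  (List.range 64).all fun c => q61 c || P q61 a c || P q61 b c ||
    (Nat.beq a 0 || Nat.beq b 0 || Nat.beq c 0 || Nat.beq a b || Nat.beq a c || Nat.beq b c || Nat.beq (a ^^^ b) c)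

theorem noThree_true : noThree = true := by decide +kernel

theorem no_three {a b c : ℕ} (ha : a < 64) (hb : b < 64) (hc : c < 64) (qa : q61 a = false) (qb : q61 b = false)
    (qc : q61 c = false) (hab : P q61 a b = false) (hac : P q61 a c = false) (hbc : P q61 b c = false) :
    a = 0 ∨ b = 0 ∨ c = 0 ∨ a = b ∨ a = c ∨ b = c ∨ a ^^^ b = c := by
  have h1 := List.all_eq_true.1 noThree_true a (List.mem_range.2 ha)
  rw [qa, Bool.false_or] at h1
  have h2 := List.all_eq_true.1 h1 b (List.mem_range.2 hb)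
  rw [qb, hab, Bool.or_self, Bool.false_or] at h2
  have h3 := List.all_eq_true.1 h2 c (List.mem_range.2 hc)
  rw [qc, hac, hbc, Bool.or_self, Bool.or_self, Bool.false_or] at h3
  simp only [Bool.or_eq_true, Nat.beq_eq] at h3
  tauto

theorem p_bits {e : (Fin 6 → ZMod 2) ≃ₗ[ZMod 2] W} (he : ∀ c, Q (e c) = Fischer920.IsoO.qf 1 c) {c d : ℕ}
    (h : polar Q (e (bits 6 c)) (e (bits 6 d)) = 0) : P q61 c d = false := by
  have h1 := Q_add (Q := Q) (e (bits 6 c)) (e (bits 6 d))
  rw [h, ← map_add, ← bits_xor, he, he, he, qf_bits1, qf_bits1, qf_bits1] at h1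
  rw [P]
  generalize q61 (c ^^^ d) = x at h1 ⊢
  generalize q61 c = y at h1 ⊢
  generalize q61 d = z at h1 ⊢
  revert h1
  cases x <;> cases y <;> cases z <;> decide

theorem geo_minus (hQ : Nondeg Q) (e : (Fin 6 → ZMod 2) ≃ₗ[ZMod 2] W)
    (he : ∀ c, Q (e c) = Fischer920.IsoO.qf 1 c) : Geo Q ⊤ := by
  have hd : Module.finrank (ZMod 2) W = 6 := by rw [← e.finrank_eq, Module.finrank_fin_fun]
  have : Module.Finite (ZMod 2) W := Module.finite_of_finrank_pos (by omega)
  have hs := surj_of_inj (by norm_num) hd (inj6 e)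
  have hq : ∀ {c}, Q (e (bits 6 c)) = 0 → q61 c = false := by
    intro c h
    rw [he, qf_bits1] at h
    by_contra hcon
    rw [if_pos (by simpa using hcon)] at h
    exact absurd h (by decide)
  have h0 : ∀ {c}, c = 0 → e (bits 6 c) = 0 := by
    intro c hc
    rw [hc, ← Nat.xor_self 0, bits_xor, add_self, map_zero]
  apply geo_six hQ (by omega)
  intro a b c qa qb qc hab hac hbc
  obtain ⟨a, ha, rfl⟩ := hs a
  obtain ⟨b, hb, rfl⟩ := hs b
  obtain ⟨c, hc, rfl⟩ := hs c
  rcases no_three ha hb hc (hq qa) (hq qb) (hq qc) (p_bits he hab) (p_bits he hac) (p_bits he hbc) with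
    h | h | h | h | h | h | h
  · exact Or.inl (h0 h)
  · exact Or.inr (Or.inl (h0 h))
  · exact Or.inr (Or.inr (Or.inl (h0 h)))
  · exact Or.inr (Or.inr (Or.inr (Or.inl (by rw [h]))))
  · exact Or.inr (Or.inr (Or.inr (Or.inr (Or.inl (by rw [h])))))
  · exact Or.inr (Or.inr (Or.inr (Or.inr (Or.inr (Or.inl (by rw [h]))))))
  · refine Or.inr (Or.inr (Or.inr (Or.inr (Or.inr (Or.inr ?_)))))
    rw [← map_add, ← bits_xor, h, add_self]

/-- the value of a bit -/
def bz (b : Bool) : ZMod 2 := if b = true then 1 else 0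

theorem bz_xor : ∀ a b : Bool, bz (xor a b) = bz a + bz b := by decide

theorem bz_inj : ∀ {a b : Bool}, bz a = bz b → a = b := by decide

theorem bz_aux : ∀ a b c : Bool, (if a = true then 1 else 0) + bz b * bz c = if (xor a (b && c)) = true then 1 else 0 := by
  decide

theorem sec_eight (L : Lab D Q vec) (hd : Module.finrank (ZMod 2) W = 8) {u v : W} (h : Hyp Q u v)
    (e : (Fin 6 → ZMod 2) ≃ₗ[ZMod 2] (pp Q u v)) (he : ∀ c, Q (e c) = Fischer920.IsoO.qf 0 c) :
    ∃ s, Sec D Q vec ⊤ s := by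
  have tu : ∀ t : pp Q u v, polar Q (t : W) u = 0 := fun t => by rw [p_comm]; exact (mem_pp.1 t.2).1
  have tv : ∀ t : pp Q u v, polar Q (t : W) v = 0 := fun t => by rw [p_comm]; exact (mem_pp.1 t.2).2
  let β : ℕ → W := fun c => (e (bits 6 c) : W) + (bz (c.testBit 6) • u + bz (c.testBit 7) • v)
  have hβ : ∀ c, β c = (e (bits 6 c) : W) + (bz (c.testBit 6) • u + bz (c.testBit 7) • v) := fun _ => rfl
  have pu : ∀ c, polar Q (β c) u = bz (c.testBit 7) := by
    intro c
    rw [hβ, p_add', p_add', tu, polar_smul_left, polar_smul_left, p_self, h.pair', smul_eq_mul, smul_eq_mul]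
    ring
  have pv : ∀ c, polar Q (β c) v = bz (c.testBit 6) := by
    intro c
    rw [hβ, p_add', p_add', tv, polar_smul_left, polar_smul_left, p_self, h.pair, smul_eq_mul, smul_eq_mul]
    ring
  have hinj : ∀ c < 2 ^ 8, ∀ d < 2 ^ 8, β c = β d → c = d := by
    intro c hc d hd hcd
    have h7 : c.testBit 7 = d.testBit 7 := bz_inj (by rw [← pu, ← pu, hcd])
    have h6 : c.testBit 6 = d.testBit 6 := bz_inj (by rw [← pv, ← pv, hcd])
    rw [hβ, hβ, h7, h6] at hcd
    have h1 := testBit_of_bits (e.injective (Subtype.ext (add_right_cancel hcd)))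
    apply eq_of_testBit hc hd
    intro i hi
    rcases Nat.lt_or_ge i 6 with h2 | h2
    · exact h1 i h2
    · obtain rfl | rfl : i = 6 ∨ i = 7 := by omega
      · exact h6
      · exact h7
  refine exists_sec ok_E8 (β := β) ?_ ?_ hinj (surj_of_inj (by norm_num) hd hinj) L
  · intro c d
    rw [hβ, hβ, hβ, bits_xor, map_add, Submodule.coe_add, Nat.testBit_xor, Nat.testBit_xor, bz_xor, bz_xor, add_smul,
      add_smul]
    abel
  · intro c _
    have h1 : Q (e (bits 6 c) : W) = if q60 c = true then 1 else 0 := by rw [← qf_bits, ← he]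
    rw [hβ, Q_add, Q_add, h1, q80, ← bz_aux]
    simp only [p_add, polar_smul_right, polar_smul_left, tu, tv, h.pair, QuadraticMap.map_smul, h.left, h.right,
      smul_eq_mul]
    ring

end

/-- **Closed sections exist in all dimensions `2n ≥ 6`.** -/
theorem exists_sec_of_nondeg {n : ℕ} (hn : 3 ≤ n) : ∀ {W : Type*} [AddCommGroup W] [Module (ZMod 2) W]
    {Q : QuadraticForm (ZMod 2) W}, Nondeg Q → Module.finrank (ZMod 2) W = 2 * n → ∀ {G : Type*} [Group G] {D : Set G}
    {vec : G → W}, Lab D Q vec → ∃ s, Sec D Q vec ⊤ s := by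
  induction n, hn using Nat.le_induction with
  | base =>
    intro W _ _ Q hQ hd G _ D vec L
    obtain ⟨m, e, he⟩ := Fischer920.IsoO.exists_iso hQ hd
    rcases zo m with rfl | rfl
    · exact sec_plus L e he
    · exact sec_minus L e he
  | succ n hn ih =>
    intro W _ _ Q hQ hd G _ D vec L
    have : Module.Finite (ZMod 2) W := Module.finite_of_finrank_pos (by omega)
    have hG : Good Q := good_of_finite hQ (by omega)
    obtain ⟨u, v, h⟩ := hG.exists_hyp
    have hT := nondeg_pp hQ h
    have hdT := finrank_pp (by omega) h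
    rcases Nat.lt_or_ge n 4 with h4 | h4
    · obtain rfl : n = 3 := by omega
      obtain ⟨m, e, he⟩ := Fischer920.IsoO.exists_iso hT (by omega)
      rcases zo m with rfl | rfl
      · exact sec_eight L (by omega) h e he
      · obtain ⟨s, S⟩ := sec_minus (L.restrict (pp Q u v)) e he
        obtain ⟨s', S'⟩ := S.of_restrict
        exact S'.step L (geo_minus hT e he).of_restrict (dec_pp h)
    · obtain ⟨s, S⟩ := ih hT (by omega) (L.restrict (pp Q u v))
      obtain ⟨s', S'⟩ := S.of_restrict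
      exact S'.step L (geo_eight hT (by omega)).of_restrict (dec_pp h)

end Cfsg.Agent.H838.TT
end

-- part: H838/TTO
section
/-!
# Closed sections, orthogonal type over `F_2` (helper838, TT2 of S5554)
-/

set_option autoImplicit false

namespace Cfsg.Agent.H838.TT

open QuadraticMap Cfsg.Agent.LieClassical.OrthCore
open Cfsg.Agent.H854.ClassBasic Cfsg.Agent.Fischer480.Defs Cfsg.Agent.H853.TDefs

section

variable {G : Type*} [Group G] {D : Set G}

/-- commuting modulo `V` is commuting -/
theorem comm_iff (h : Cls D) {V : Subgroup G} [V.Normal] (hV : IsPGroup 2 V) {d e : G} (hd : d ∈ D) (he : e ∈ D) :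
    Commute (QuotientGroup.mk' V d) (QuotientGroup.mk' V e) ↔ d * e = e * d := by
  constructor
  · intro hc
    apply commute_of_mod h hV hd he
    rw [← QuotientGroup.eq_one_iff]
    have h1 : (QuotientGroup.mk' V d) * (QuotientGroup.mk' V d) = 1 := by rw [← map_mul, h.sq d hd, map_one]
    have h2 : (QuotientGroup.mk' V e) * (QuotientGroup.mk' V e) = 1 := by rw [← map_mul, h.sq e he, map_one]
    change QuotientGroup.mk' V ((d * e) * (d * e)) = 1
    rw [map_mul, map_mul]
    calc QuotientGroup.mk' V d * QuotientGroup.mk' V e * (QuotientGroup.mk' V d * QuotientGroup.mk' V e) =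
        QuotientGroup.mk' V d * (QuotientGroup.mk' V e * QuotientGroup.mk' V d) * QuotientGroup.mk' V e := by
          simp only [mul_assoc]
      _ = QuotientGroup.mk' V d * (QuotientGroup.mk' V d * QuotientGroup.mk' V e) * QuotientGroup.mk' V e := by
          rw [hc.eq]
      _ = (QuotientGroup.mk' V d * QuotientGroup.mk' V d) * (QuotientGroup.mk' V e * QuotientGroup.mk' V e) := by
          simp only [mul_assoc]
      _ = 1 := by rw [h1, h2, mul_one]
  · intro hc
    change QuotientGroup.mk' V d * QuotientGroup.mk' V e = QuotientGroup.mk' V e * QuotientGroup.mk' V d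
    rw [← map_mul, ← map_mul, hc]

theorem conj' (h : Cls D) {d e : G} (hd : d ∈ D) (he : e ∈ D) : d * e * d ∈ D := by
  have h1 := h.conj d e he
  rwa [inv_eq_of_mul_eq_one_left (h.sq d hd)] at h1

/-- a member not commuting with `d, e` -/
theorem not_comm_conj (h : Cls D) {d e : G} (hd : d ∈ D) (hc : d * e ≠ e * d) : (d * e * d) * d ≠ d * (d * e * d) := by
  have hdd := h.sq d hd
  intro h1
  apply hc
  have h2 : d * e * d * d = d * e := by rw [mul_assoc, hdd, mul_one]
  have h3 : d * (d * e * d) = e * d := by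
    calc d * (d * e * d) = (d * d) * e * d := by simp only [mul_assoc]
      _ = e * d := by rw [hdd, one_mul]
  rw [← h2, ← h3, h1]

/-- a member commuting with `d, e` commutes with `d e d` -/
theorem comm_conj {x d e : G} (h1 : x * d = d * x) (h2 : x * e = e * x) : x * (d * e * d) = (d * e * d) * x := by
  calc x * (d * e * d) = (x * d) * e * d := by simp only [mul_assoc]
    _ = d * (x * e) * d := by rw [h1]; simp only [mul_assoc]
    _ = d * e * (x * d) := by rw [h2]; simp only [mul_assoc]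
    _ = _ := by rw [h1]; simp only [mul_assoc]

/-- **Labels by vectors.** -/
theorem lab_of (h : Cls D) {V : Subgroup G} [V.Normal] (hV : IsPGroup 2 V) {W : Type*} [AddCommGroup W]
    [Module (ZMod 2) W] {Q : QuadraticForm (ZMod 2) W} {f : G ⧸ V → W} (hQ : Nondeg Q)
    (f1 : ∀ x ∈ QuotientGroup.mk' V '' D, Q (f x) = 1)
    (f2 : ∀ x ∈ QuotientGroup.mk' V '' D, ∀ y ∈ QuotientGroup.mk' V '' D, (Commute x y ↔ polar Q (f x) (f y) = 0))
    (f3 : ∀ v, Q v = 1 → ∃ x ∈ QuotientGroup.mk' V '' D, f x = v) : Lab D Q fun d => f (QuotientGroup.mk' V d) := by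
  have g1 : ∀ {d}, d ∈ D → Q (f (QuotientGroup.mk' V d)) = 1 := fun hd => f1 _ ⟨_, hd, rfl⟩
  have g2 : ∀ {d e}, d ∈ D → e ∈ D → (d * e = e * d ↔ polar Q (f (QuotientGroup.mk' V d)) (f (QuotientGroup.mk' V e)) = 0) :=
    fun hd he => (comm_iff h hV hd he).symm.trans (f2 _ ⟨_, hd, rfl⟩ _ ⟨_, he, rfl⟩)
  have g3 : ∀ v, Q v = 1 → ∃ d ∈ D, f (QuotientGroup.mk' V d) = v := by
    intro v hv
    obtain ⟨_, ⟨d, hd, rfl⟩, h1⟩ := f3 v hv
    exact ⟨d, hd, h1⟩
  generalize hvec : (fun d => f (QuotientGroup.mk' V d)) = vec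
  have hv : ∀ d, f (QuotientGroup.mk' V d) = vec d := fun d => congrFun hvec d
  simp only [hv] at g1 g2 g3
  have nc : ∀ {d e}, d ∈ D → e ∈ D → polar Q (vec d) (vec e) = 1 → d * e ≠ e * d := by
    intro d e hd he h1 h2
    rw [g2 hd he, h1] at h2
    exact absurd h2 (by decide)
  refine ⟨h.sq, fun d hd => g1 hd, fun d hd e he h1 => (g2 hd he).2 h1, ?_, fun d hd e he _ => conj' h hd he, ?_, g3⟩
  · intro d hd e he h1
    exact (h.braid d hd e he).resolve_left (nc hd he h1)
  · intro d hd e he h1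
    have hde := nc hd he h1
    have hbr := (h.braid d hd e he).resolve_left hde
    have hm := conj' h hd he
    -- the values at `d`, `e`
    have wd : polar Q (vec (d * e * d)) (vec d) = 1 := by
      rcases zo (polar Q (vec (d * e * d)) (vec d)) with h2 | h2
      · exact absurd ((g2 hm hd).2 h2) (not_comm_conj h hd hde)
      · exact h2
    have we : polar Q (vec (d * e * d)) (vec e) = 1 := by
      rcases zo (polar Q (vec (d * e * d)) (vec e)) with h2 | h2
      · have h3 := (g2 hm he).2 h2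
        rw [hbr] at h3
        exact absurd h3 (not_comm_conj h he (Ne.symm hde))
      · exact h2
    set w := vec (d * e * d) with hw
    set u := vec d with hu
    set v := vec e with hv'
    have qu : Q u = 1 := g1 hd
    have qv : Q v = 1 := g1 he
    have qw : Q w = 1 := g1 hm
    have hvu : polar Q v u = 1 := by rw [p_comm, h1]
    set b := w + (u + v) with hb
    have bu : polar Q b u = 0 := by
      rw [hb, p_add', p_add', wd, p_self, hvu]
      decide
    have bv : polar Q b v = 0 := by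
      rw [hb, p_add', p_add', we, p_self, h1]
      decide
    have hwb : w = (u + v) + b := by
      rw [hb, add_comm w, add_cancel2]
    have quv : Q (u + v) = 1 := by
      rw [Q_add, qu, qv, h1]
      decide
    have qb : Q b = 0 := by
      have h2 := Q_add (Q := Q) (u + v) b
      rw [← hwb, qw, quv, p_add', p_comm u, bu, p_comm v, bv] at h2
      simpa using h2
    -- members commuting with `d, e`
    have key : ∀ z, Q z = 1 → polar Q z u = 0 → polar Q z v = 0 → polar Q z b = 0 := by
      intro z qz zu zv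
      obtain ⟨x, hx, hxz⟩ := g3 z qz
      have h2 : x * d = d * x := (g2 hx hd).2 (by rw [hxz]; exact zu)
      have h3 : x * e = e * x := (g2 hx he).2 (by rw [hxz]; exact zv)
      have h4 := (g2 hx hm).1 (comm_conj h2 h3)
      rw [hxz] at h4
      rw [hb, p_add, p_add, zu, zv, h4, add_zero, add_zero]
    have hb0 : b = 0 := by
      by_contra hb0
      obtain ⟨y0, hy0⟩ := hQ.exists_polar_eq hb0 1
      have e1 : polar Q y0 b = 1 := by rw [p_comm, hy0]
      set y := y0 + (polar Q y0 v • u + polar Q y0 u • v) with hy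
      have yu : polar Q y u = 0 := by
        rw [hy, p_add', p_add', polar_smul_left, polar_smul_left, p_self, hvu, smul_eq_mul, smul_eq_mul, mul_zero,
          mul_one, zero_add]
        rcases zo (polar Q y0 u) with h2 | h2 <;> rw [h2] <;> decide
      have yv : polar Q y v = 0 := by
        rw [hy, p_add', p_add', polar_smul_left, polar_smul_left, p_self, h1, smul_eq_mul, smul_eq_mul, mul_zero,
          mul_one, add_zero]
        rcases zo (polar Q y0 v) with h2 | h2 <;> rw [h2] <;> decide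
      have yb : polar Q y b = 1 := by
        rw [hy, p_add', p_add', polar_smul_left, polar_smul_left, p_comm u, bu, p_comm v, bv, e1, smul_zero, smul_zero,
          add_zero, add_zero]
      rcases zo (Q y) with qy | qy
      · have h2 := key (y + b) (by rw [Q_add, qy, qb, yb]; decide) (by rw [p_add', yu, bu, add_zero])
          (by rw [p_add', yv, bv, add_zero])
        rw [p_add', p_self, yb] at h2
        exact absurd h2 (by decide)
      · have h2 := key y qy yu yv
        rw [yb] at h2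
        exact absurd h2 (by decide)
    rw [hwb, hb0, add_zero]

/-- **Orthogonal type.** -/
theorem closed_o [Finite G] (h : Cls D) {V : Subgroup G} [V.Normal] (hV : IsPGroup 2 V) {n : ℕ} (hn : 3 ≤ n)
    (hS : IsO n (QuotientGroup.mk' V '' D)) : ∃ S, ClosedSection D V S := by
  obtain ⟨Q, f, hQ, f1, f2, f3, f4⟩ := hS
  have L := lab_of h hV hQ f1 f2 f4
  obtain ⟨s, S⟩ := exists_sec_of_nondeg hn hQ (Module.finrank_fin_fun _) L
  have sinv : ∀ {x}, Q x = 1 → (s x)⁻¹ = s x := fun hx => L.inv (S.mem _ trivial hx)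
  refine ⟨s '' {w | Q w = 1}, ?_, ?_, ?_, ?_⟩
  · rintro _ ⟨x, hx, rfl⟩
    exact S.mem x trivial hx
  · rintro _ ⟨x, hx, rfl⟩ _ ⟨y, hy, rfl⟩
    rw [sinv hx]
    rcases zo (polar Q x y) with h1 | h1
    · refine ⟨y, hy, ?_⟩
      have h2 := L.comm _ (S.mem x trivial hx) _ (S.mem y trivial hy) (by
        rw [S.lab x trivial hx, S.lab y trivial hy]
        exact h1)
      rw [h2, mul_assoc, L.sq _ (S.mem x trivial hx), mul_one]
    · refine ⟨x + y, ?_, (S.conj x trivial y trivial hx hy h1).symm⟩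
      change Q (x + y) = 1
      rw [Q_add, show Q x = 1 from hx, show Q y = 1 from hy, h1]
      decide
  · intro d hd
    have qd := L.q d hd
    refine ⟨_, ⟨_, qd, rfl⟩, ?_⟩
    have h1 := S.lab _ trivial qd
    have h2 := f3 _ ⟨_, S.mem _ trivial qd, rfl⟩ _ ⟨_, hd, rfl⟩ h1
    exact QuotientGroup.eq.1 h2
  · rintro _ ⟨x, hx, rfl⟩ _ ⟨y, hy, rfl⟩ h1
    have h2 : QuotientGroup.mk' V (s x) = QuotientGroup.mk' V (s y) := QuotientGroup.eq.2 h1
    have h3 := congrArg f h2
    have h4 : x = y := by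
      rw [← S.lab x trivial hx, ← S.lab y trivial hy]
      exact h3
    rw [h4]

end

end Cfsg.Agent.H838.TT
end
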